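/-
Computed facts about the quadratic form `i j - k² - l²` on `(ZMod 3)⁴`.
-/
import Cfsg.Agent.EqLemmas
import Mathlib

set_option autoImplicit false
set_option maxRecDepth 100000
set_option linter.style.longLine false

namespace Cfsg.Agent.McLThree.Weak

/-- Coordinates on `J`. -/
abbrev V4 := ZMod 3 × ZMod 3 × ZMod 3 × ZMod 3

/-- The coordinate vector of `z`. -/
def zc : V4 := (1, 0, 0, 0)
/-- The coordinate vector of `w`. -/
def wc : V4 := (0, 1, 0, 0)
/-- The coordinate vector of `z w`. -/
def xc : V4 := (1, 1, 0, 0)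

/-- The form `k² + l²`. -/
def nrm (k l : ZMod 3) : ZMod 3 := k * k + l * l

/-- The singular vectors. -/
def sgc (v : V4) : Prop := v ≠ 0 ∧ v.1 * v.2.1 = nrm v.2.2.1 v.2.2.2

instance : DecidablePred sgc := fun v => by unfold sgc; infer_instance

/-- Multiples of a vector. -/
def inLine (v u : V4) : Prop := u = 0 ∨ u = v ∨ u = -v

instance : DecidableRel inLine := fun v u => by unfold inLine; infer_instance

/-- The coset of `j` modulo the line of `v` has no singular vector outside the line. -/
def critc (v j : V4) : Prop := ∀ i : Fin 3, sgc (j + i.val • v) → inLine v (j + i.val • v)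

instance : DecidableRel critc := fun v j => by unfold critc; infer_instance

theorem nrm_values : ∀ k l : ZMod 3, (k, l) ≠ (0, 0) → nrm k l ≠ 0 := by decide +kernel

theorem crit_E : ∀ j : V4, critc zc j → critc wc j → j.1 = 0 ∧ j.2.1 = 0 := by decide +kernel

theorem crit_E' : ∀ k l : ZMod 3, critc zc (0, 0, k, l) ∧ critc wc (0, 0, k, l) := by decide +kernel

theorem perp_E : ∀ v : V4, sgc v → (∀ k l : ZMod 3, critc v (0, 0, k, l)) →
    inLine zc v ∨ inLine wc v := by decide +kernel

/-- A hyperplane missing `z` contains a singular vector. -/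
theorem hyperplane : ∀ i j k : ZMod 3, ∃ a b c : Fin 3,
    sgc (a.val • (i, 1, 0, 0) + b.val • (j, 0, 1, 0) + c.val • (k, 0, 0, 1)) := by decide +kernel

/-- A vector outside `⟨x⟩` spans with `x` a line with a singular vector or a line of elliptic type. -/
theorem line_cases : ∀ j : V4, ¬ inLine xc j →
    (∃ m n : Fin 3, sgc (m.val • xc + n.val • j)) ∨
      ∃ p ∈ (([0, 1, 2] : List (ZMod 3)).flatMap fun i => ([0, 1, 2] : List (ZMod 3)).flatMap fun k =>
          ([0, 1, 2] : List (ZMod 3)).map fun l => ((i, 1, k, l) : V4)) ++ [zc],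
        ∃ q ∈ (([0, 1, 2] : List (ZMod 3)).flatMap fun i => ([0, 1, 2] : List (ZMod 3)).flatMap fun k =>
          ([0, 1, 2] : List (ZMod 3)).map fun l => ((i, 1, k, l) : V4)) ++ [zc],
        sgc p ∧ sgc q ∧ ¬ inLine p q ∧ critc p xc ∧ critc q xc ∧ critc p j ∧ critc q j := by
  decide +kernel

end Cfsg.Agent.McLThree.Weak
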