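/-
Computed facts about signed permutations of the axes orthogonal to `z w`.
-/
import Cfsg.Agent.Lib.McLThree.Weak.Facts
import Cfsg.Agent.Lib.McLThree.FactsTwo
import Cfsg.Agent.Lib.ThreeCubedSymFour.Model

set_option autoImplicit false
set_option maxRecDepth 100000
set_option synthInstance.maxSize 5000
set_option synthInstance.maxHeartbeats 1000000
set_option linter.style.longLine false

namespace Cfsg.Agent.McLThree.Weak

open Cfsg.Agent.ThreeCubedSymFour (V3 Mon actV)

/-- The vectors orthogonal to `xc`. -/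
def k3 (v : V3) : V4 := (v.1, -v.1, v.2.1, v.2.2)

/-- The first axis. -/
def ax0 : V3 := (1, 0, 0)
/-- The second axis. -/
def ax1 : V3 := (0, 1, 0)
/-- The third axis. -/
def ax2 : V3 := (0, 0, 1)

/-- The six axis vectors. -/
def units : List V3 := [ax0, ax1, ax2, -ax0, -ax1, -ax2]

/-- A vector or its negative. -/
def sgnV (ε : Bool) (v : V3) : V3 := cond ε (-v) v

/-- The signed action. -/
def sact (m : Mon) (ε : Bool) (v : V3) : V3 := sgnV ε (actV m v)

theorem k3_add : ∀ v w : V3, k3 (v + w) = k3 v + k3 w := by decide +kernel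

theorem k3_neg : ∀ v : V3, k3 (-v) = -k3 v := by decide +kernel

theorem k3_inj : ∀ v w : V3, k3 v = k3 w → v = w := by decide +kernel

theorem k3_notLine : ∀ v : V3, inLine xc (k3 v) → v = 0 := by decide +kernel

theorem split_xc : ∀ v : V4, ∃ a : ZMod 3, ∃ u : V3, v = a.val • xc + k3 u := by decide +kernel

theorem axis_iff : (∀ p ∈ units, sgc (xc + k3 p) ∧ sgc (-xc + k3 p)) ∧
    ∀ v : V4, sgc (xc + v) → sgc (-xc + v) → ∃ p ∈ units, v = k3 p := by decide +kernel

theorem axes_rep : ∀ p ∈ units, ∀ q ∈ units, ∀ r ∈ units, p ≠ q → p ≠ -q → p ≠ r → p ≠ -r → q ≠ r → q ≠ -r →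
    ∃ m : Mon, ∃ ε : Bool, p = sact m ε ax0 ∧ q = sact m ε ax1 ∧ r = sact m ε ax2 := by decide +kernel

theorem sact_lin : ∀ (m : Mon) (ε : Bool) (v : V3), sact m ε v =
    v.1.val • sact m ε ax0 + v.2.1.val • sact m ε ax1 + v.2.2.val • sact m ε ax2 := by decide +kernel

theorem vec_lin : ∀ v : V3, v = v.1.val • ax0 + v.2.1.val • ax1 + v.2.2.val • ax2 := by decide +kernel

theorem actV_neg : ∀ (m : Mon) (v : V3), actV m (-v) = -actV m v := by decide +kernel

theorem sact_unique : ∀ (m m' : Mon) (ε ε' : Bool), sact m ε ax0 = sact m' ε' ax0 →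
    sact m ε ax1 = sact m' ε' ax1 → sact m ε ax2 = sact m' ε' ax2 → m = m' ∧ ε = ε' := by decide +kernel

theorem sact_mul (m m' : Mon) (ε ε' : Bool) (v : V3) :
    sact m ε (sact m' ε' v) = sact (m * m') (xor ε ε') v := by
  cases ε <;> cases ε' <;> simp [sact, sgnV, actV_neg, ThreeCubedSymFour.actV_mul]

theorem axis_cases : ∀ (m : Mon) (ε : Bool),
    (sact m ε ax0 = ax0 ∨ sact m ε ax0 = -ax0) ∨ (sact m ε ax1 = ax1 ∨ sact m ε ax1 = -ax1) ∨
      (sact m ε ax2 = ax2 ∨ sact m ε ax2 = -ax2) ∨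
      (sact (m * m * m) ε ax0 = ax0 ∨ sact (m * m * m) ε ax0 = -ax0) := by decide +kernel

theorem fix_det : ∀ M ∈ ([1, -1, rot, -rot] : List Mat3), ∀ (m : Mon) (ε : Bool), sact m ε ax0 = ax0 →
    (∀ k l : ZMod 3, sact m ε (0, k, l) = (0, M.mulVec ![k, l] 0, M.mulVec ![k, l] 1)) → ε = false := by
  decide +kernel

theorem swap_det : ∀ (m : Mon) (ε : Bool), sact m ε ax0 = -ax0 →
    (∀ k l : ZMod 3, (sact m ε (0, k, l)).1 = 0) ∧
    ((∀ k l : ZMod 3, sact m ε (0, -l, k) = (0, (sact m ε (0, k, l)).2.2, -(sact m ε (0, k, l)).2.1)) →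
      ε = false) := by decide +kernel

/-- The image of `t`. -/
def mT : Mon := ⟨0, false, false, true⟩
/-- A second involution of the four-group. -/
def mB : Mon := ⟨0, false, true, false⟩
/-- The rotation of the axes. -/
def mR : Mon := ⟨1, false, false, false⟩

theorem mT_act : ∀ v : V3, actV mT v = (v.1, -v.2.1, -v.2.2) := by decide +kernel

theorem four_conj : ∀ m : Mon, actV m ax0 = ax1 → m * mT * m⁻¹ = mB := by decide +kernel

theorem rot_word : ∀ m₁ m₂ : Mon, actV m₁ ax0 = ax1 → actV m₂ ax0 = ax2 →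
    ∃ m ∈ ([m₁, m₂ * m₂, m₁ * m₂, m₂ * m₁] : List Mon), m.r = 1 ∧ m.w = false := by decide +kernel

theorem rot_adjust : ∀ m : Mon, m.r = 1 → m.w = false →
    ∃ v ∈ ([1, mT, mB, mT * mB] : List Mon), v * m = mR := by decide +kernel

theorem even_word : ∀ m : Mon, m.w = false →
    ∃ v ∈ ([1, mT, mB, mT * mB] : List Mon), ∃ i : Fin 3, m = v * mR ^ (i : ℕ) := by decide +kernel

theorem odd_split : ∀ a m : Mon, a.w = true → m.w = true → (m * a⁻¹).w = false := by decide +kernel

theorem four_mul : ∀ a b : Mon, a.r = 0 → a.w = false → b.r = 0 → b.w = false →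
    (a * b).r = 0 ∧ (a * b).w = false ∧ (a * b).s = xor a.s b.s ∧ (a * b).t = xor a.t b.t := by decide +kernel

theorem four_ext : ∀ a : Mon, a.r = 0 → a.w = false →
    a = cond a.s mB 1 * cond a.t mT 1 := by decide +kernel

theorem neg_exists : ∃ m : Mon, ∀ v : V3, (-(actV m v).1, -(actV m v).2.2, (actV m v).2.1) = -v := by
  decide +kernel

end Cfsg.Agent.McLThree.Weak
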