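/-
Computed facts about the tetrahedral group on the axes.
-/
import Cfsg.Agent.Lib.McLThree.Weak.MonFacts

set_option autoImplicit false
set_option maxRecDepth 100000
set_option synthInstance.maxSize 5000
set_option synthInstance.maxHeartbeats 1000000
set_option linter.style.longLine false

namespace Cfsg.Agent.McLThree.Weak

open Cfsg.Agent.ThreeCubedSymFour (V3 Mon actV)

/-- The diagonal vector. -/
def diag : V3 := (1, 1, 1)

/-- The two rotations fixing the diagonal. -/
def rots : List Mon := [mR, mR * mR]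

theorem r_add : ∀ a b : Mon, a.w = false → b.w = false → (a * b).r = a.r + b.r := by decide +kernel

theorem rots_r : ∀ m ∈ rots, m.r ≠ 0 ∧ m.w = false ∧ m ^ 3 = 1 := by decide +kernel

theorem rots_diag : ∀ m ∈ rots, actV m diag = diag ∧ ∀ v : V3, actV m v = v → ∃ c : ZMod 3, v = c.val • diag := by
  decide +kernel

theorem rots_cent : ∀ m ∈ rots, ∀ y : Mon, y.w = false → y * m = m * y → ∃ i : Fin 3, y = m ^ (i : ℕ) := by
  decide +kernel

theorem rots_pow : ∀ m ∈ rots, ∀ i : Fin 3, (i : ℕ) ≠ 0 → m ^ (i : ℕ) ∈ rots := by decide +kernel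

theorem rots_shift : ∀ m ∈ rots, ∀ e : Fin 3, ∃ v : V3, v + -actV m v = (e : ℕ) • diag := by decide +kernel

theorem rots_norm : ∀ c : ZMod 3,
    ((-c, 0, 0) : V3) + (actV mR (-c, 0, 0) + actV mR (actV mR (-c, 0, 0))) + c.val • diag = 0 := by decide +kernel

theorem diag_not_inverted : ∀ m : Mon, m.w = false → actV m diag ≠ (2 : ℕ) • diag := by decide +kernel

theorem order_three_form : ∀ m : Mon, m ^ 3 = 1 → m.w = false → m.r = 0 → m = 1 := by decide +kernel

theorem conj_to_rots : ∀ m : Mon, m.w = false → m.r ≠ 0 →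
    ∃ v ∈ ([1, mT, mB, mT * mB] : List Mon), v * m * v⁻¹ ∈ rots := by decide +kernel

theorem conj_r : ∀ v m : Mon, v.w = false → m.w = false → (v * m * v⁻¹).r = m.r := by decide +kernel

theorem even_split : ∀ m : Mon, m.w = false →
    (m * (mR ^ m.r.val)⁻¹).r = 0 ∧ (m * (mR ^ m.r.val)⁻¹).w = false := by decide +kernel

theorem diff_span : ∀ v : V3, ∃ a b : V3, v = (actV mT a + -a) + (actV mB b + -b) := by
  intro v
  refine ⟨(0, v.2.1, v.2.2), (v.1, 0, 0), ?_⟩
  revert v
  decide +kernel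

theorem zmod_cases : ∀ a : ZMod 3, a = 0 ∨ a = 1 ∨ a = 2 := by decide +kernel

theorem rots_pow_r : ∀ m ∈ rots, ∀ i : Fin 3, (m ^ (i : ℕ)).r = ((i : ℕ) : ZMod 3) * m.r := by decide +kernel

theorem mult_cube : ∀ a : Multiplicative (ZMod 3), a ^ 3 = 1 := by decide +kernel

theorem mult_sq : ∀ a : Multiplicative (ZMod 3), a * a = 1 → a = 1 := by decide +kernel

theorem four_sq : ∀ m : Mon, m.r = 0 → m.w = false → m * m = 1 := by decide +kernel

end Cfsg.Agent.McLThree.Weak
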