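/-
Coordinates on `J` and the quadratic form describing the singular elements.
-/
import Cfsg.Agent.Lib.McLThree.Norm
import Cfsg.Agent.Lib.McLThree.Weak.Facts

set_option autoImplicit false
set_option maxRecDepth 100000
set_option linter.style.longLine false
set_option linter.style.haveILetI false

namespace Cfsg.Agent.McLThree

open Weak

namespace Pair

variable {G : Type*} [Group G] [Finite G] (d : Pair G)

theorem n_conj_E {e : G} (he : e ∈ d.E) : d.n * e * d.n⁻¹ ∈ d.E := by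
  obtain ⟨h1, h2⟩ := d.mem_E.1 he
  have hm : ∀ u ∈ d.J, d.n * u * d.n⁻¹ = d.m * u * d.m⁻¹ := fun u hu =>
    d.act_eq d.n_mem d.m_mem (by rw [d.π_n, d.π_m]) hu
  refine d.mem_E.2 ⟨by rwa [hm e (d.A_le_J h1)], ?_⟩
  rw [hm e (d.A_le_J h1), show d.m * (d.m * e * d.m⁻¹) * d.m⁻¹ = d.m * d.m * e * (d.m * d.m)⁻¹ by group,
    d.m_sq, one_mul, inv_one, mul_one]
  exact h1

theorem E_le_A : d.E ≤ d.A := fun _ he => (d.mem_E.1 he).1

theorem eq_of_ZE {u u' e e' : G} (hu : u ∈ d.Z) (hu' : u' ∈ d.Z) (he : e ∈ d.E) (he' : e' ∈ d.E)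
    (h : u * e = u' * e') : u = u' ∧ e = e' := by
  have h1 : u'⁻¹ * u = e' * e⁻¹ := by rw [inv_mul_eq_iff_eq_mul, ← mul_assoc, ← h, mul_inv_cancel_right]
  have hZP : d.Z ≤ d.P := Subgroup.zpowers_le.2 d.z_mem_P
  have h2 := d.eq_one_of_P_E (hZP (d.Z.mul_mem (d.Z.inv_mem hu') hu))
    (h1 ▸ d.E.mul_mem he' (d.E.inv_mem he))
  have h3 : u = u' := (inv_mul_eq_one.1 h2).symm
  subst h3
  exact ⟨rfl, mul_left_cancel h⟩

/-- An element of `S` moving `w` inside `Z` lies in `J`. -/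
theorem mem_J_of_comm_w {u : G} (huS : u ∈ (d.S : Subgroup G)) (h : u * d.w * u⁻¹ * d.w⁻¹ ∈ d.Z) :
    u ∈ d.J := by
  have hwQ : d.w ∉ d.Q := fun h => d.w_notMem_A ⟨d.w_mem_J, h⟩
  have hwS := d.J_le d.w_mem_J
  have hζ : d.w * u * d.w⁻¹ * u⁻¹ ∈ d.Z := by
    have := d.Z.inv_mem h
    rwa [show (u * d.w * u⁻¹ * d.w⁻¹)⁻¹ = d.w * u * d.w⁻¹ * u⁻¹ by group] at this
  rcases d.S_decomp hwS hwQ huS with h0 | h0 | h0
  · exact d.A_le_J (d.fix_le_A hwS hwQ h0 hζ)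
  · have := d.J.mul_mem (d.A_le_J (d.fix_le_A hwS hwQ h0 (by
      rwa [show d.w * (u * d.w⁻¹) * d.w⁻¹ * (u * d.w⁻¹)⁻¹ = d.w * u * d.w⁻¹ * u⁻¹ by group]))) d.w_mem_J
    rwa [inv_mul_cancel_right] at this
  · have := d.J.mul_mem (d.A_le_J (d.fix_le_A hwS hwQ h0 (by
      rwa [show d.w * (u * d.w) * d.w⁻¹ * (u * d.w)⁻¹ = d.w * u * d.w⁻¹ * u⁻¹ by group]))) (d.J.inv_mem d.w_mem_J)
    rwa [mul_inv_cancel_right] at this

/-- Elements of `S` moving `w` equally modulo `Z` agree modulo `J`. -/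
theorem wconj_unique {s s' ζ ζ' e : G} (hs : s ∈ (d.S : Subgroup G)) (hs' : s' ∈ (d.S : Subgroup G))
    (hζ : ζ ∈ d.Z) (hζ' : ζ' ∈ d.Z) (h : s * d.w * s⁻¹ = d.w * (ζ * e))
    (h' : s' * d.w * s'⁻¹ = d.w * (ζ' * e)) : s'⁻¹ * s ∈ d.J ∧ ζ = ζ' := by
  have huS : s'⁻¹ * s ∈ (d.S : Subgroup G) := Subgroup.mul_mem _ (Subgroup.inv_mem _ hs') hs
  have hr : ζ * ζ'⁻¹ ∈ d.Z := d.Z.mul_mem hζ (d.Z.inv_mem hζ')
  have h1 : s'⁻¹ * (ζ * ζ'⁻¹) * s' = ζ * ζ'⁻¹ := by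
    rw [mul_assoc, ← d.L₀_Z (d.S_le_L₀ hs') hr, inv_mul_cancel_left]
  have e1 : s * d.w * s⁻¹ = ζ * ζ'⁻¹ * (s' * d.w * s'⁻¹) := by
    rw [h, h', ← mul_assoc (ζ * ζ'⁻¹), ← d.L₀_Z (d.S_le_L₀ (d.J_le d.w_mem_J)) hr]
    group
  have e2 : s'⁻¹ * s * d.w * (s'⁻¹ * s)⁻¹ * d.w⁻¹ = ζ * ζ'⁻¹ := by
    calc s'⁻¹ * s * d.w * (s'⁻¹ * s)⁻¹ * d.w⁻¹ = s'⁻¹ * (s * d.w * s⁻¹) * s' * d.w⁻¹ := by group
      _ = s'⁻¹ * (ζ * ζ'⁻¹) * s' := by rw [e1]; group
      _ = _ := h1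
  have hJ := d.mem_J_of_comm_w huS (e2 ▸ hr)
  refine ⟨hJ, ?_⟩
  have e3 : s'⁻¹ * s * d.w * (s'⁻¹ * s)⁻¹ * d.w⁻¹ = 1 := by
    rw [conj_eq_of_commute (d.J_comm _ hJ _ d.w_mem_J), mul_inv_cancel]
  exact mul_inv_eq_one.1 (e2.symm.trans e3)

theorem exists_wconj {s : G} (hs : s ∈ (d.S : Subgroup G)) :
    ∃ ζ ∈ d.Z, ∃ e ∈ d.E, s * d.w * s⁻¹ = d.w * (ζ * e) := by
  have hA : d.w⁻¹ * (s * d.w * s⁻¹ * d.w⁻¹) * d.w ∈ d.A := by
    have := d.S_conj_A (Subgroup.inv_mem _ (d.J_le d.w_mem_J)) (d.J_comm_A hs d.w_mem_J)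
    rwa [inv_inv] at this
  obtain ⟨ζ, hζ, e, he, heq⟩ := d.exists_A_decomp hA
  exact ⟨ζ, hζ, e, he, by rw [← heq]; group⟩

/-- Every element of `E` is the `E`-part of some `s w s⁻¹`. -/
theorem wconj_surj {e : G} (he : e ∈ d.E) :
    ∃ s ∈ (d.S : Subgroup G), ∃ ζ ∈ d.Z, s * d.w * s⁻¹ = d.w * (ζ * e) := by
  choose f hf hfπ using fun p : P0 => d.exists_S (mem_P0.1 p.2)
  choose fζ hfζ fe hfe hff using fun p : P0 => d.exists_wconj (hf p)
  have hinj : Function.Injective (fun p : P0 => (⟨fe p, hfe p⟩ : d.E)) := by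
    intro p q h
    have h' : fe p = fe q := congrArg Subtype.val h
    have hJ := (d.wconj_unique (hf p) (hf q) (hfζ p) (hfζ q) (hff p) (h' ▸ hff q)).1
    have := (d.π₆_eq_iff (d.S_le_M₀ (hf q)) (d.S_le_M₀ (hf p))).2 hJ
    rw [hfπ, hfπ] at this
    exact Subtype.ext this.symm
  obtain ⟨p, hp⟩ := (hinj.bijective_of_nat_card_le (by rw [card_P0, d.card_E])).2 ⟨e, he⟩
  have hpe : fe p = e := congrArg Subtype.val hp
  exact ⟨f p, hf p, fζ p, hfζ p, hpe ▸ hff p⟩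

theorem zpow_add' {x : G} (hx : x ^ 3 = 1) (a b : ZMod 3) : x ^ (a + b).val = x ^ a.val * x ^ b.val := by
  rw [← pow_add, ZMod.val_add, ← pow_eq_pow_mod _ hx]

/-- `z ^ m * w * e` is singular. -/
def Sing (m : ZMod 3) (e : G) : Prop := d.Sg (d.z ^ m.val * d.w * e)

theorem sing_eq_w {m : ZMod 3} {e : G} : d.z ^ m.val * d.w * e = d.w * (d.z ^ m.val * e) := by
  rw [← mul_assoc, d.L₀_Z (d.S_le_L₀ (d.J_le d.w_mem_J)) (d.Z.pow_mem d.z_mem_Z _)]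

theorem exists_sing {e : G} (he : e ∈ d.E) : ∃ m, d.Sing m e := by
  obtain ⟨s, hs, ζ, hζ, h⟩ := d.wconj_surj he
  have hsg : d.Sg (d.w * (ζ * e)) := h ▸ d.sg_conj d.sg_w (d.S_conj_J hs d.w_mem_J)
  rcases three_cases d.z_cube hζ with rfl | rfl | rfl
  · exact ⟨0, by rw [Sing, d.sing_eq_w, ZMod.val_zero, pow_zero]; exact hsg⟩
  · exact ⟨1, by rw [Sing, d.sing_eq_w, ZMod.val_one, pow_one]; exact hsg⟩
  · refine ⟨2, ?_⟩
    rw [Sing, d.sing_eq_w, show (2 : ZMod 3).val = 2 from rfl, pow_two, ← inv_eq_sq d.z_cube]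
    exact hsg

theorem sing_conj {m : ZMod 3} {e : G} (he : e ∈ d.E) (h : d.Sing m e) :
    ∃ s ∈ (d.S : Subgroup G), s * d.w * s⁻¹ = d.w * (d.z ^ m.val * e) := by
  have hA : d.z ^ m.val * e ∈ d.A := d.A.mul_mem (d.A.pow_mem d.z_mem_A _) (d.E_le_A he)
  have hne : d.w * (d.z ^ m.val * e) ∉ d.Z := fun hZ => d.w_notMem_A (by
    have := d.A.mul_mem (d.Z_le_A hZ) (d.A.inv_mem hA)
    rwa [mul_inv_cancel_right] at this)
  rw [Sing, d.sing_eq_w] at h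
  rcases d.sg_cases d.m_mem d.π_m h with hZ | ⟨s, hs, hse⟩
  · exact absurd hZ hne
  change _ = s * d.w * s⁻¹ ∨ _ = s * d.w⁻¹ * s⁻¹ at hse
  rcases hse with e1 | e1
  · exact ⟨s, hs, e1.symm⟩
  · exfalso
    obtain ⟨ζ, hζ, e', he', hw⟩ := d.exists_wconj hs
    rw [← conj_inv, hw, eq_inv_iff_mul_eq_one] at e1
    refine d.w_notMem_A ?_
    have hA' : ζ * e' ∈ d.A := d.A.mul_mem (d.Z_le_A hζ) (d.E_le_A he')
    have hcm : ∀ a ∈ d.A, a * d.w = d.w * a := fun a ha => d.J_comm a (d.A_le_J ha) _ d.w_mem_J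
    have h2 : d.w * d.w * (d.z ^ m.val * e * (ζ * e')) = 1 := by
      rw [← e1]
      calc d.w * d.w * (d.z ^ m.val * e * (ζ * e')) = d.w * (d.w * (d.z ^ m.val * e)) * (ζ * e') := by group
        _ = d.w * (d.z ^ m.val * e * d.w) * (ζ * e') := by rw [hcm _ hA]
        _ = _ := by group
    have h3 := eq_inv_of_mul_eq_one_left h2
    have h4 : d.w⁻¹ ∈ d.A := by
      rw [inv_eq_sq (d.J_exp _ d.w_mem_J), h3]
      exact d.A.inv_mem (d.A.mul_mem hA hA')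
    exact inv_mem_iff.1 h4

theorem sing_unique {m m' : ZMod 3} {e : G} (he : e ∈ d.E) (h : d.Sing m e) (h' : d.Sing m' e) :
    m = m' := by
  obtain ⟨s, hs, hse⟩ := d.sing_conj he h
  obtain ⟨s', hs', hse'⟩ := d.sing_conj he h'
  have := (d.wconj_unique hs hs' (d.Z.pow_mem d.z_mem_Z _) (d.Z.pow_mem d.z_mem_Z _) hse hse').2
  exact ZMod.val_injective 3 (pow_injOn_Iio_orderOf (by rw [d.orderOf_z]; exact ZMod.val_lt m)
    (by rw [d.orderOf_z]; exact ZMod.val_lt m') this)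

theorem sing_zero : d.Sing 0 1 := by rw [Sing]; simpa using d.sg_w

theorem sing_ne_zero {m : ZMod 3} {e : G} (he : e ∈ d.E) (he1 : e ≠ 1) (h : d.Sing m e) : m ≠ 0 := by
  rintro rfl
  rw [Sing, ZMod.val_zero, pow_zero, one_mul] at h
  have hc : d.n * (d.w * e) * d.n⁻¹ = d.z * (d.n * e * d.n⁻¹) := by rw [← conj_mul, d.n_w]
  have hnA : d.z * (d.n * e * d.n⁻¹) ∈ d.A := d.A.mul_mem d.z_mem_A (d.E_le_A (d.n_conj_E he))
  have hsg := d.sg_conj h (g := d.n) (hc ▸ d.A_le_J hnA)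
  rw [hc] at hsg
  obtain ⟨-, h2⟩ := d.eq_of_ZE d.z_mem_Z (d.sg_A hsg hnA) (d.n_conj_E he) d.E.one_mem (mul_one _).symm
  exact he1 (conj_eq_one_iff.1 h2)

theorem t_pow_z (k : ℕ) : d.t * d.z ^ k * d.t⁻¹ = d.z ^ k :=
  conj_eq_of_commute ((show Commute d.t d.z from d.t_z).pow_right k).eq

theorem sing_inv {m : ZMod 3} {e : G} (he : e ∈ d.E) (h : d.Sing m e) : d.Sing m e⁻¹ := by
  have hc : d.t * (d.z ^ m.val * d.w * e) * d.t⁻¹ = d.z ^ m.val * d.w * e⁻¹ := by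
    rw [← conj_mul, ← conj_mul, d.t_pow_z, conj_eq_of_commute d.t_w', d.t_conj_E he]
  have := d.sg_conj h (g := d.t) ((Subgroup.mem_normalizer_iff.1 d.t_NJ _).1
    (d.J.mul_mem (d.J.mul_mem (d.J.pow_mem d.z_mem_J _) d.w_mem_J) (d.E_le_J he)))
  rwa [hc] at this

theorem sing_g {m : ZMod 3} {e : G} (he : e ∈ d.E) (h : d.Sing m e) : d.Sing m (d.g * e * d.g⁻¹) := by
  have hge := d.conj_E' d.g_mem_T2 he
  have hJ : d.z ^ m.val * d.w * e ∈ d.J :=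
    d.J.mul_mem (d.J.mul_mem (d.J.pow_mem d.z_mem_J _) d.w_mem_J) (d.E_le_J he)
  have h1 := d.sg_inv (d.sg_conj h (g := d.g) ((Subgroup.mem_normalizer_iff.1 (d.M₀_le d.g_mem) _).1 hJ))
  have h2 : d.Sing m (d.g * e * d.g⁻¹)⁻¹ := by
    rw [Sing]
    convert h1 using 1
    rw [← conj_mul, ← conj_mul, ← conj_pow, d.g_z_w.1, d.g_z_w.2, inv_pow]
    have hzm := d.J.pow_mem d.z_mem_J m.val
    generalize d.g * e * d.g⁻¹ = f at hge
    rw [mul_inv_rev, mul_inv_rev, inv_inv, inv_inv,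
      d.J_comm _ (d.J.inv_mem (d.E_le_J hge)) _ (d.J.mul_mem d.w_mem_J hzm),
      d.J_comm _ d.w_mem_J _ hzm]
  have := d.sing_inv (d.E.inv_mem hge) h2
  rwa [inv_inv] at this

theorem sing_pair {a c : ZMod 3} {e f : G} (he : e ∈ d.E) (hf : f ∈ d.E) (ha : d.Sing a e)
    (hc : d.Sing c f) : ∃ k, d.Sing (a + c + k) (e * f) ∧ d.Sing (a + c - k) (e * f⁻¹) := by
  obtain ⟨s, hs, hse⟩ := d.sing_conj he ha
  have hζ := d.S_A_comm hs (d.E_le_A hf)
  obtain ⟨k, hk⟩ : ∃ k : ZMod 3, s * f * s⁻¹ * f⁻¹ = d.z ^ k.val := by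
    rcases three_cases d.z_cube hζ with e1 | e1 | e1 <;> rw [e1]
    · exact ⟨0, by simp⟩
    · exact ⟨1, by simp [ZMod.val_one]⟩
    · exact ⟨2, by rw [show (2 : ZMod 3).val = 2 from rfl, pow_two, inv_eq_sq d.z_cube]⟩
  have hsf : s * f * s⁻¹ = d.z ^ k.val * f := mul_inv_eq_iff_eq_mul.1 hk
  have key : ∀ (f' : G) (k' : ZMod 3), f' ∈ d.E → d.Sing c f' → s * f' * s⁻¹ = d.z ^ k'.val * f' →
      d.Sing (a + c + k') (e * f') := by
    intro f' k' hf' hc' hsf'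
    have hJ : d.z ^ c.val * d.w * f' ∈ d.J :=
      d.J.mul_mem (d.J.mul_mem (d.J.pow_mem d.z_mem_J _) d.w_mem_J) (d.E_le_J hf')
    have h1 := d.sg_conj hc' (g := s) (d.S_conj_J hs hJ)
    rw [← conj_mul, ← conj_mul, hse, hsf',
      conj_eq_of_commute ((show Commute s d.z from d.S_z hs).pow_right _).eq] at h1
    rw [Sing]
    convert h1 using 1
    have hzc : ∀ (i : ℕ), ∀ u ∈ d.J, u * d.z ^ i = d.z ^ i * u := fun i u hu =>
      d.J_comm _ hu _ (d.J.pow_mem d.z_mem_J i)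
    rw [zpow_add' d.z_cube, zpow_add' d.z_cube]
    symm
    calc d.z ^ c.val * (d.w * (d.z ^ a.val * e)) * (d.z ^ k'.val * f')
        = d.z ^ c.val * (d.w * d.z ^ a.val) * (e * d.z ^ k'.val) * f' := by group
      _ = d.z ^ c.val * (d.z ^ a.val * d.w) * (d.z ^ k'.val * e) * f' := by
          rw [hzc _ _ d.w_mem_J, hzc _ _ (d.E_le_J he)]
      _ = d.z ^ c.val * d.z ^ a.val * (d.w * d.z ^ k'.val) * e * f' := by group
      _ = d.z ^ c.val * d.z ^ a.val * d.z ^ k'.val * d.w * (e * f') := by rw [hzc _ _ d.w_mem_J]; group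
      _ = _ := by rw [(Commute.pow_pow (Commute.refl d.z) c.val a.val).eq]
  refine ⟨k, key f k hf hc hsf, ?_⟩
  have h2 := key f⁻¹ (-k) (d.E.inv_mem hf) (d.sing_inv hf hc) (by
    rw [← conj_inv, hsf, mul_inv_rev, d.J_comm _ (d.J.inv_mem (d.E_le_J hf)) _
      (d.J.inv_mem (d.J.pow_mem d.z_mem_J _))]
    congr 1
    refine inv_eq_of_mul_eq_one_right ?_
    rw [← zpow_add' d.z_cube, add_neg_cancel, ZMod.val_zero, pow_zero])
  rwa [← sub_eq_add_neg] at h2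

/-- A change of coordinates of `E` commuting with `rot`. -/
theorem exists_scale : ∃ M : Mat3, M * rot = rot * M ∧ M.det ≠ 0 ∧
    ∀ k l : ZMod 3, d.Sing (nrm k l) (d.ι (M.mulVec ![k, l])) := by
  have h10 : d.ι ![1, 0] = d.e₀ := by simp [ι, ZMod.val_one]
  have h01 : d.ι ![0, 1] = d.f₀ := by simp [ι, ZMod.val_one]
  obtain ⟨a, ha⟩ := d.exists_sing d.e₀_mem
  have ha0 := d.sing_ne_zero d.e₀_mem d.e₀_ne ha
  have hf : d.Sing a d.f₀ := d.sing_g d.e₀_mem ha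
  obtain ⟨k, hk1, hk2⟩ := d.sing_pair d.e₀_mem d.f₀_mem ha hf
  have hgef : d.g * (d.e₀ * d.f₀) * d.g⁻¹ = (d.e₀ * d.f₀⁻¹)⁻¹ := by
    rw [← conj_mul, show d.g * d.e₀ * d.g⁻¹ = d.f₀ from rfl, d.g_f₀, mul_inv_rev, inv_inv]
  have hef : d.e₀ * d.f₀⁻¹ ∈ d.E := d.E.mul_mem d.e₀_mem (d.E.inv_mem d.f₀_mem)
  have hk3 : d.Sing (a + a + k) (d.e₀ * d.f₀⁻¹) := by
    have h3 := d.sing_g (d.E.mul_mem d.e₀_mem d.f₀_mem) hk1
    rw [hgef] at h3
    have := d.sing_inv (d.E.inv_mem hef) h3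
    rwa [inv_inv] at this
  have hkeq := d.sing_unique hef hk3 hk2
  have hk0 : k = 0 := (by decide +kernel : ∀ a k : ZMod 3, a + a + k = a + a - k → k = 0) _ _ hkeq
  subst hk0
  rw [add_zero] at hk1 hk3
  have hneg : ∀ u, d.ι (-u) = (d.ι u)⁻¹ := fun u => by
    refine eq_inv_of_mul_eq_one_left ?_
    rw [← d.ι_add, neg_add_cancel, d.ι_zero]
  have hall : ∀ k l : ZMod 3, d.Sing (a * nrm k l) (d.ι ![k, l]) := by
    have h11 : d.ι ![1, 1] = d.e₀ * d.f₀ := by rw [← h10, ← h01, ← d.ι_add]; congr 1; decide +kernel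
    have h12 : d.ι ![1, 2] = d.e₀ * d.f₀⁻¹ := by
      rw [← h10, ← h01, ← hneg, ← d.ι_add]; congr 1; decide +kernel
    have h00 : d.ι ![0, 0] = 1 := by rw [← d.ι_zero]; congr 1; decide +kernel
    have base : ∀ k l : ZMod 3, (k, l) ∈ [((0 : ZMod 3), (0 : ZMod 3)), (1, 0), (0, 1), (1, 1), (1, 2)] →
        d.Sing (a * nrm k l) (d.ι ![k, l]) := by
      intro k l h
      simp only [List.mem_cons, List.not_mem_nil, or_false, Prod.mk.injEq] at h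
      rcases h with ⟨rfl, rfl⟩ | ⟨rfl, rfl⟩ | ⟨rfl, rfl⟩ | ⟨rfl, rfl⟩ | ⟨rfl, rfl⟩
      · rw [h00, show nrm 0 0 = (0 : ZMod 3) by decide +kernel, mul_zero]; exact d.sing_zero
      · rw [h10, show nrm 1 0 = (1 : ZMod 3) by decide +kernel, mul_one]; exact ha
      · rw [h01, show nrm 0 1 = (1 : ZMod 3) by decide +kernel, mul_one]; exact hf
      · rw [h11, show nrm 1 1 = (2 : ZMod 3) by decide +kernel, mul_two]; exact hk1
      · rw [h12, show nrm 1 2 = (2 : ZMod 3) by decide +kernel, mul_two]; exact hk3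
    intro k l
    rcases (by decide +kernel : ∀ k l : ZMod 3,
        (k, l) ∈ [((0 : ZMod 3), (0 : ZMod 3)), (1, 0), (0, 1), (1, 1), (1, 2)] ∨
        (-k, -l) ∈ [((0 : ZMod 3), (0 : ZMod 3)), (1, 0), (0, 1), (1, 1), (1, 2)]) k l with h | h
    · exact base k l h
    · have h' := d.sing_inv (d.ι_mem _) (base _ _ h)
      rw [← hneg, show nrm (-k) (-l) = nrm k l by simp [nrm]] at h'
      convert h' using 3
      exact (by decide +kernel : ∀ k l : ZMod 3, ![k, l] = -![-k, -l]) k l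
  rcases (by decide +kernel : ∀ a : ZMod 3, a ≠ 0 → a = 1 ∨ a = 2) a ha0 with rfl | rfl
  · refine ⟨1, by simp, by simp, fun k l => ?_⟩
    rw [Matrix.one_mulVec]
    simpa using hall k l
  · refine ⟨1 + rot, by decide +kernel, by decide +kernel, fun k l => ?_⟩
    have e := (by decide +kernel : ∀ k l : ZMod 3, (1 + rot).mulVec ![k, l] = ![k - l, k + l] ∧
      2 * nrm (k - l) (k + l) = nrm k l) k l
    rw [e.1, ← e.2]
    exact hall _ _

/-- The chosen change of coordinates. -/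
noncomputable def scale : Mat3 := d.exists_scale.choose

theorem scale_rot : d.scale * rot = rot * d.scale := d.exists_scale.choose_spec.1

theorem scale_det : d.scale.det ≠ 0 := d.exists_scale.choose_spec.2.1

/-- The coordinates of `J`. -/
noncomputable def κ (v : V4) : G :=
  d.z ^ v.1.val * d.w ^ v.2.1.val * d.ι (d.scale.mulVec ![v.2.2.1, v.2.2.2])

theorem κ_mem_J (v : V4) : d.κ v ∈ d.J :=
  d.J.mul_mem (d.J.mul_mem (d.J.pow_mem d.z_mem_J _) (d.J.pow_mem d.w_mem_J _)) (d.E_le_J (d.ι_mem _))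

theorem κ_add (u v : V4) : d.κ (u + v) = d.κ u * d.κ v := by
  have hc : ∀ {p q r s : G}, p ∈ d.J → q ∈ d.J → r ∈ d.J → p * q * (r * s) = p * r * (q * s) :=
    fun {p q r s} _ hq hr => by
      calc p * q * (r * s) = p * (q * r) * s := by group
        _ = p * (r * q) * s := by rw [d.J_comm q hq r hr]
        _ = _ := by group
  have hvec : ![(u + v).2.2.1, (u + v).2.2.2] = ![u.2.2.1, u.2.2.2] + ![v.2.2.1, v.2.2.2] := by
    funext i; fin_cases i <;> rfl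
  rw [κ, κ, κ, hvec, Matrix.mulVec_add, d.ι_add, Prod.fst_add, Prod.snd_add, Prod.fst_add,
    zpow_add' d.z_cube, zpow_add' (d.J_exp _ d.w_mem_J)]
  set Z1 := d.z ^ u.1.val
  set Z2 := d.z ^ v.1.val
  set W1 := d.w ^ u.2.1.val
  set W2 := d.w ^ v.2.1.val
  set I1 := d.ι (d.scale.mulVec ![u.2.2.1, u.2.2.2])
  set I2 := d.ι (d.scale.mulVec ![v.2.2.1, v.2.2.2])
  have hZ1 : Z1 ∈ d.J := d.J.pow_mem d.z_mem_J _
  have hZ2 : Z2 ∈ d.J := d.J.pow_mem d.z_mem_J _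
  have hW1 : W1 ∈ d.J := d.J.pow_mem d.w_mem_J _
  have hW2 : W2 ∈ d.J := d.J.pow_mem d.w_mem_J _
  have hI1 : I1 ∈ d.J := d.E_le_J (d.ι_mem _)
  rw [hc (d.J.mul_mem hZ1 hW1) hI1 (d.J.mul_mem hZ2 hW2), hc hZ1 hW1 hZ2]

theorem κ_zero : d.κ 0 = 1 := by
  have h := d.κ_add 0 0
  rw [add_zero] at h
  exact left_eq_mul.1 h

theorem κ_neg (v : V4) : d.κ (-v) = (d.κ v)⁻¹ := by
  refine eq_inv_of_mul_eq_one_left ?_
  rw [← d.κ_add, neg_add_cancel, d.κ_zero]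

theorem κ_nsmul (n : ℕ) (v : V4) : d.κ (n • v) = d.κ v ^ n := by
  induction n with
  | zero => rw [zero_smul, pow_zero, d.κ_zero]
  | succ n ih => rw [succ_nsmul, d.κ_add, ih, pow_succ]

theorem κ_zc : d.κ zc = d.z := by
  have : d.scale.mulVec ![(0 : ZMod 3), 0] = 0 := by
    rw [show ![(0 : ZMod 3), 0] = 0 by decide +kernel, Matrix.mulVec_zero]
  simp [κ, zc, this, d.ι_zero, ZMod.val_one]

theorem κ_wc : d.κ wc = d.w := by
  have : d.scale.mulVec ![(0 : ZMod 3), 0] = 0 := by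
    rw [show ![(0 : ZMod 3), 0] = 0 by decide +kernel, Matrix.mulVec_zero]
  simp [κ, wc, this, d.ι_zero, ZMod.val_one]

theorem κ_xc : d.κ xc = d.z * d.w := by
  rw [show xc = zc + wc by decide +kernel, d.κ_add, d.κ_zc, d.κ_wc]

theorem κ_E (k l : ZMod 3) : d.κ (0, 0, k, l) = d.ι (d.scale.mulVec ![k, l]) := by
  simp [κ]

theorem κ_inj : Function.Injective d.κ := by
  suffices hz : ∀ v, d.κ v = 1 → v = 0 by
    intro u v h
    refine sub_eq_zero.1 (hz _ ?_)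
    rw [sub_eq_add_neg, d.κ_add, d.κ_neg, h, mul_inv_cancel]
  intro v hv
  obtain ⟨i, j, k, l⟩ := v
  rw [κ] at hv
  have hp : d.z ^ i.val * d.w ^ j.val ∈ d.P :=
    d.P.mul_mem (d.P.pow_mem d.z_mem_P _) (d.P.pow_mem d.w_mem_P _)
  have hI : d.ι (d.scale.mulVec ![k, l]) = 1 :=
    d.eq_one_of_P_E (by
      have h' := eq_inv_of_mul_eq_one_right hv
      rw [h']; exact d.P.inv_mem hp) (d.ι_mem _)
  rw [hI, mul_one] at hv
  have hkl : ![k, l] = 0 := by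
    have h0 := d.ι_inj (hI.trans d.ι_zero.symm)
    exact Matrix.eq_zero_of_mulVec_eq_zero d.scale_det h0
  have hj : j = 0 := by
    by_contra hj0
    refine d.w_notMem_Z ?_
    have h2 : d.w ^ j.val ∈ d.Z := by
      rw [eq_inv_of_mul_eq_one_right hv]; exact d.Z.inv_mem (d.Z.pow_mem d.z_mem_Z _)
    have h3 := d.Z.pow_mem h2 j⁻¹.val
    rwa [← pow_mul, pow_eq_pow_mod _ (d.J_exp _ d.w_mem_J), ← ZMod.val_mul, mul_inv_cancel₀ hj0,
      ZMod.val_one, pow_one] at h3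
  subst hj
  rw [ZMod.val_zero, pow_zero, mul_one] at hv
  have hi : i = 0 := ZMod.val_injective 3 (by
    rw [ZMod.val_zero]
    exact pow_injOn_Iio_orderOf (by rw [d.orderOf_z]; exact ZMod.val_lt i)
      (by rw [d.orderOf_z]; norm_num) (by simpa using hv))
  subst hi
  have h0 : k = 0 := congrFun hkl 0
  have h1 : l = 0 := congrFun hkl 1
  subst h0 h1
  rfl

theorem exists_κ {j : G} (hj : j ∈ d.J) : ∃ v, d.κ v = j := by
  have hf : Function.Injective (fun v => (⟨d.κ v, d.κ_mem_J v⟩ : d.J)) := fun u v h =>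
    d.κ_inj (congrArg Subtype.val h)
  obtain ⟨v, hv⟩ := (hf.bijective_of_nat_card_le (by simp [d.J_card])).2 ⟨j, hj⟩
  exact ⟨v, congrArg Subtype.val hv⟩

theorem sing_scaled (k l : ZMod 3) : d.Sing (nrm k l) (d.κ (0, 0, k, l)) := by
  rw [d.κ_E]
  exact d.exists_scale.choose_spec.2.2 k l

/-- The singular elements are the nonzero zeros of the form. -/
theorem sg_κ (v : V4) : d.Sg (d.κ v) ↔ sgc v := by
  suffices h0 : ∀ i k l : ZMod 3, d.Sg (d.κ (i, 0, k, l)) ↔ sgc (i, 0, k, l) by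
    suffices h1 : ∀ i k l : ZMod 3, d.Sg (d.κ (i, 1, k, l)) ↔ sgc (i, 1, k, l) by
      obtain ⟨i, j, k, l⟩ := v
      rcases (by decide +kernel : ∀ j : ZMod 3, j = 0 ∨ j = 1 ∨ j = -1) j with rfl | rfl | rfl
      · exact h0 i k l
      · exact h1 i k l
      · have hd : ∀ u : V4, d.Sg (d.κ u) ↔ d.Sg (d.κ (-u)) := fun u => by
          refine ⟨fun h => by rw [d.κ_neg]; exact d.sg_inv h, fun h => ?_⟩
          have := d.sg_inv h
          rwa [d.κ_neg, inv_inv] at this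
        rw [hd, show -(i, (-1 : ZMod 3), k, l) = ((-i, 1, -k, -l) : V4) by simp, h1]
        exact (by decide +kernel : ∀ i k l : ZMod 3, sgc (-i, 1, -k, -l) ↔ sgc (i, -1, k, l)) i k l
    intro i k l
    have hκ : d.κ (i, 1, k, l) = d.z ^ i.val * d.w * d.κ (0, 0, k, l) := by
      rw [κ, d.κ_E]; simp [ZMod.val_one]
    have hc := (by decide +kernel : ∀ i k l : ZMod 3, sgc (i, 1, k, l) ↔ i = nrm k l) i k l
    rw [hκ, hc]
    have hE : d.κ (0, 0, k, l) ∈ d.E := by rw [d.κ_E]; exact d.ι_mem _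
    exact ⟨fun h => d.sing_unique hE h (d.sing_scaled k l), fun h => h ▸ d.sing_scaled k l⟩
  intro i k l
  have hA : d.κ (i, 0, k, l) ∈ d.A := by
    rw [κ, ZMod.val_zero, pow_zero, mul_one]
    exact d.A.mul_mem (d.A.pow_mem d.z_mem_A _) (d.E_le_A (d.ι_mem _))
  constructor
  · intro h
    rcases three_cases d.z_cube (d.sg_A h hA) with e | e | e
    · exact absurd e (d.sg_ne_one h)
    · rw [← d.κ_zc] at e
      rw [d.κ_inj e]; decide +kernel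
    · rw [← d.κ_zc, ← d.κ_neg] at e
      rw [d.κ_inj e]; decide +kernel
  · intro h
    rcases (by decide +kernel : ∀ i k l : ZMod 3, sgc (i, 0, k, l) →
        ((i, 0, k, l) : V4) = zc ∨ ((i, 0, k, l) : V4) = -zc) i k l h with e | e <;> rw [e]
    · rw [d.κ_zc]; exact d.sg_z
    · rw [d.κ_neg, d.κ_zc]; exact d.sg_inv d.sg_z

/-- The coset of `j` modulo `⟨v⟩` has no singular element outside `⟨v⟩`. -/
def Crit (v j : G) : Prop := ∀ i : ℕ, d.Sg (j * v ^ i) → j * v ^ i ∈ Subgroup.zpowers v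

theorem crit_κ (v j : V4) : d.Crit (d.κ v) (d.κ j) ↔ critc v j := by
  have hv3 : d.κ v ^ 3 = 1 := d.J_exp _ (d.κ_mem_J v)
  have hline : ∀ u, d.κ u ∈ Subgroup.zpowers (d.κ v) ↔ inLine v u := by
    intro u
    constructor
    · intro h
      rcases three_cases hv3 h with e | e | e
      · exact Or.inl (d.κ_inj (e.trans d.κ_zero.symm))
      · exact Or.inr (Or.inl (d.κ_inj e))
      · exact Or.inr (Or.inr (d.κ_inj (e.trans (d.κ_neg v).symm)))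
    · rintro (rfl | rfl | rfl)
      · rw [d.κ_zero]; exact one_mem _
      · exact Subgroup.mem_zpowers _
      · rw [d.κ_neg]; exact inv_mem (Subgroup.mem_zpowers _)
  have hterm : ∀ i : ℕ, d.κ j * d.κ v ^ i = d.κ (j + i • v) := fun i => by rw [d.κ_add, d.κ_nsmul]
  constructor
  · intro h i hs
    have := h i.val (by rw [hterm, d.sg_κ]; exact hs)
    rwa [hterm, hline] at this
  · intro h i hs
    rw [pow_eq_pow_mod i hv3, hterm, d.sg_κ] at hs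
    rw [pow_eq_pow_mod i hv3, hterm, hline]
    exact h ⟨i % 3, Nat.mod_lt _ (by norm_num)⟩ hs

/-- Conjugation in `N(J)` preserves the singular elements. -/
theorem sg_NJ {k y : G} (hk : k ∈ Subgroup.normalizer (d.J : Set G)) (hy : y ∈ d.J) :
    d.Sg (k * y * k⁻¹) ↔ d.Sg y := by
  refine ⟨fun h => ?_, fun h => d.sg_conj h ((Subgroup.mem_normalizer_iff.1 hk y).1 hy)⟩
  have e : k⁻¹ * (k * y * k⁻¹) * k⁻¹⁻¹ = y := by group
  have := d.sg_conj h (g := k⁻¹) (by rw [e]; exact hy)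
  rwa [e] at this

theorem crit_conj {k v j : G} (hk : k ∈ Subgroup.normalizer (d.J : Set G)) (hv : v ∈ d.J) (hj : j ∈ d.J)
    (h : d.Crit v j) : d.Crit (k * v * k⁻¹) (k * j * k⁻¹) := by
  intro i hs
  rw [conj_pow, conj_mul] at hs ⊢
  rw [d.sg_NJ hk (d.J.mul_mem hj (d.J.pow_mem hv i))] at hs
  obtain ⟨m, hm⟩ := Subgroup.mem_zpowers_iff.1 (h i hs)
  exact Subgroup.mem_zpowers_iff.2 ⟨m, by rw [conj_zpow, hm]⟩

theorem mem_E_iff_κ {v : V4} : d.κ v ∈ d.E ↔ v.1 = 0 ∧ v.2.1 = 0 := by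
  constructor
  · intro h
    obtain ⟨u, hu⟩ := d.exists_coord h
    have hinj : Function.Injective d.scale.mulVec := fun a b e => by
      refine sub_eq_zero.1 (Matrix.eq_zero_of_mulVec_eq_zero d.scale_det ?_)
      rw [Matrix.mulVec_sub, e, sub_self]
    obtain ⟨u', hu'⟩ := (Finite.injective_iff_surjective.1 hinj) u
    have e : d.κ (0, 0, u' 0, u' 1) = d.κ v := by
      rw [d.κ_E, show ![u' 0, u' 1] = u' by funext i; fin_cases i <;> rfl, hu', hu]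
    rw [← d.κ_inj e]
    exact ⟨rfl, rfl⟩
  · obtain ⟨i, j, k, l⟩ := v
    rintro ⟨rfl, rfl⟩
    rw [d.κ_E]; exact d.ι_mem _

end Pair

end Cfsg.Agent.McLThree
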