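/-
Centralizers in `C(zw)` of elements of `J` outside `⟨zw⟩` normalize `J`.
-/
import Cfsg.Agent.Lib.McLThree.Weak.Coord
import Cfsg.Agent.Lib.Coprime.Generation
import Cfsg.Agent.Lib.InvertedSylow.Reduce
import Cfsg.Agent.Lib.Cores.Basic

set_option autoImplicit false
set_option maxRecDepth 100000
set_option linter.style.longLine false
set_option linter.style.haveILetI false

open Cfsg

namespace Cfsg.Agent.McLThree

open Weak

theorem mat_swap : ∀ c M : Mat3, c * c = -1 → c * rot = -(rot * c) → M * M = 1 → M * rot = -(rot * M) →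
    ∀ K ∈ ([1, rot, c, rot * c] : List Mat3), K * M ∈ ([1, -1, rot, -rot] : List Mat3) → False := by
  decide +kernel

namespace Pair

variable {G : Type*} [Group G] [Finite G] (d : Pair G)

theorem mem_E_of_crit {j : G} (hj : j ∈ d.J) (hz : d.Crit d.z j) (hw : d.Crit d.w j) : j ∈ d.E := by
  obtain ⟨v, rfl⟩ := d.exists_κ hj
  rw [← d.κ_zc, d.crit_κ] at hz
  rw [← d.κ_wc, d.crit_κ] at hw
  exact d.mem_E_iff_κ.2 (crit_E v hz hw)

/-- `N(J)` is transitive on pairs of singular elements spanning two lines. -/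
theorem exists_map {v₁ v₂ : G} (h₁ : d.Sg v₁) (h₂ : d.Sg v₂) (hne : v₂ ∉ Subgroup.zpowers v₁) :
    ∃ k ∈ Subgroup.normalizer (d.J : Set G), k * d.z * k⁻¹ = v₁ ∧ k * d.w * k⁻¹ = v₂ := by
  obtain ⟨g', hg', hgz⟩ : ∃ g' ∈ Subgroup.normalizer (d.J : Set G), g' * d.z * g'⁻¹ = v₁ := by
    obtain ⟨g, hg, rfl | rfl⟩ := h₁
    · exact ⟨g, d.M₀_le hg, rfl⟩
    · refine ⟨g * d.g, Subgroup.mul_mem _ (d.M₀_le hg) (d.M₀_le d.g_mem), ?_⟩
      rw [← d.g_z_w.1]
      group
  have hu : d.Sg (g'⁻¹ * v₂ * g') := by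
    have := (d.sg_NJ (Subgroup.inv_mem _ hg') (d.sg_mem_J h₂)).2 h₂
    rwa [inv_inv] at this
  have hback : g' * (g'⁻¹ * v₂ * g') * g'⁻¹ = v₂ := by group
  rcases d.sg_cases d.m_mem d.π_m hu with hZ | ⟨s, hs, hse⟩
  · refine absurd ?_ hne
    obtain ⟨i, hi⟩ := Subgroup.mem_zpowers_iff.1 hZ
    exact Subgroup.mem_zpowers_iff.2 ⟨i, by rw [← hgz, conj_zpow, hi, hback]⟩
  have hsz : s * d.z * s⁻¹ = d.z := conj_eq_of_commute (d.S_z hs)
  change _ = s * d.w * s⁻¹ ∨ _ = s * d.w⁻¹ * s⁻¹ at hse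
  rcases hse with e | e
  · refine ⟨g' * s, Subgroup.mul_mem _ hg' (d.S_le_NJ hs), ?_, ?_⟩
    · rw [← hgz]
      calc g' * s * d.z * (g' * s)⁻¹ = g' * (s * d.z * s⁻¹) * g'⁻¹ := by group
        _ = _ := by rw [hsz]
    · rw [← hback, e]; group
  · refine ⟨g' * s * d.c, Subgroup.mul_mem _ (Subgroup.mul_mem _ hg' (d.S_le_NJ hs)) d.c_NJ, ?_, ?_⟩
    · calc g' * s * d.c * d.z * (g' * s * d.c)⁻¹ = g' * (s * (d.c * d.z * d.c⁻¹) * s⁻¹) * g'⁻¹ := by group
        _ = v₁ := by rw [d.c_z, hsz, hgz]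
    · have hcw : d.c * d.w * d.c⁻¹ = d.w⁻¹ := d.c_w
      calc g' * s * d.c * d.w * (g' * s * d.c)⁻¹ = g' * (s * (d.c * d.w * d.c⁻¹) * s⁻¹) * g'⁻¹ := by group
        _ = v₂ := by rw [hcw, ← e, hback]

/-- An element commuting with a singular element and a further element of `J` normalizes `J`. -/
theorem norm_of_sing {v x g : G} (hv : d.Sg v) (hx : x ∈ d.J) (hxv : x ∉ Subgroup.zpowers v)
    (hgv : g * v = v * g) (hgx : g * x = x * g) : g ∈ Subgroup.normalizer (d.J : Set G) := by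
  obtain ⟨k, hk, hkz⟩ : ∃ k ∈ Subgroup.normalizer (d.J : Set G), k * d.z * k⁻¹ = v := by
    obtain ⟨k, hk, rfl | rfl⟩ := hv
    · exact ⟨k, d.M₀_le hk, rfl⟩
    · exact ⟨k * d.g, Subgroup.mul_mem _ (d.M₀_le hk) (d.M₀_le d.g_mem), by rw [← d.g_z_w.1]; group⟩
  have hcomm : ∀ u, g * u = u * g → k⁻¹ * g * k * (k⁻¹ * u * k) = k⁻¹ * u * k * (k⁻¹ * g * k) := fun u hu => by
    calc k⁻¹ * g * k * (k⁻¹ * u * k) = k⁻¹ * (g * u) * k := by group
      _ = k⁻¹ * (u * g) * k := by rw [hu]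
      _ = _ := by group
  have h := d.norm_of_commute (x := k⁻¹ * x * k) (g := k⁻¹ * g * k)
    ((Subgroup.mem_normalizer_iff''.1 hk x).1 hx) (fun hZ => ?_)
    (d.mem_NZ_of_commute (by
      have := hcomm v hgv
      rwa [show k⁻¹ * v * k = d.z by rw [← hkz]; group] at this)) (hcomm x hgx)
  · have := Subgroup.mul_mem _ (Subgroup.mul_mem _ hk h) (Subgroup.inv_mem _ hk)
    rwa [show k * (k⁻¹ * g * k) * k⁻¹ = g by group] at this
  · refine hxv ?_
    obtain ⟨i, hi⟩ := Subgroup.mem_zpowers_iff.1 hZ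
    exact Subgroup.mem_zpowers_iff.2 ⟨i, by rw [← hkz, conj_zpow, hi]; group⟩

/-- A subgroup of order prime to three normalized by `J` is trivial. -/
theorem eq_bot_of_invariant {K : Subgroup G} (hJK : d.J ≤ Subgroup.normalizer (K : Set G))
    (hK : (Nat.card K).Coprime 3) : K = ⊥ := by
  haveI : IsMulCommutative d.J := ⟨⟨fun a b => Subtype.ext (d.J_comm _ a.2 _ b.2)⟩⟩
  refine le_bot_iff.1 (Coprime.le_of_cyclic_quotient (A := d.J) hJK
    (by rw [d.J_card, show 81 = 3 ^ 4 by norm_num]; exact hK.symm.pow_left 4) fun B hB ⟨g, hgJ, hBg⟩ => ?_)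
  have hbig : ∀ u ∈ d.J, ∃ b ∈ B, b ∉ Subgroup.zpowers u := by
    intro u hu
    by_contra hall
    push Not at hall
    have h9 : Nat.card (Subgroup.zpowers u ⊔ Subgroup.zpowers g : Subgroup G) ≤ 9 := by
      have hc : Subgroup.zpowers u ≤ Subgroup.normalizer (Subgroup.zpowers g : Set G) :=
        Subgroup.zpowers_le.2 (Subgroup.mem_normalizer_fintype fun p hp => by
          obtain ⟨i, rfl⟩ := Subgroup.mem_zpowers_iff.1 hp
          rw [conj_eq_of_commute ((show Commute u g from d.J_comm u hu g hgJ).zpow_right i).eq]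
          exact Subgroup.zpow_mem_zpowers g i)
      have hcard : ∀ p ∈ d.J, Nat.card (Subgroup.zpowers p) ≤ 3 := fun p hp => by
        rw [Nat.card_zpowers]; exact orderOf_le_of_pow_eq_one (by norm_num) (d.J_exp p hp)
      rw [← SetLike.coe_sort_coe, Subgroup.coe_mul_of_left_le_normalizer_right _ _ hc]
      refine le_trans ?_ (Nat.mul_le_mul (hcard u hu) (hcard g hgJ))
      rw [Nat.card_coe_set_eq]
      exact Set.natCard_mul_le
    have h81 := Subgroup.card_le_of_le (hBg.trans (sup_le_sup_right (fun b hb => hall b hb) _))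
    rw [d.J_card] at h81
    omega
  obtain ⟨v, hvB, hv⟩ : ∃ v ∈ B, d.Sg v := by
    by_cases hzB : d.z ∈ B
    · exact ⟨d.z, hzB, d.sg_z⟩
    have hJle : d.J ≤ B ⊔ Subgroup.zpowers d.z := by
      refine hBg.trans (sup_le le_sup_left (Subgroup.zpowers_le.2 ?_))
      have hc : Subgroup.zpowers g ≤ Subgroup.normalizer (B : Set G) := Subgroup.zpowers_le.2
        (Subgroup.mem_normalizer_fintype fun b hb => by
          rwa [conj_eq_of_commute (d.J_comm g hgJ b (hB hb))])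
      have hz : d.z ∈ ((B ⊔ Subgroup.zpowers g : Subgroup G) : Set G) := hBg d.z_mem_J
      rw [Subgroup.coe_mul_of_right_le_normalizer_left _ _ hc] at hz
      obtain ⟨b, hb, p, hp, hbp⟩ := hz
      replace hbp : b * p = d.z := hbp
      rcases three_cases (d.J_exp g hgJ) hp with e | e | e <;> rw [e] at hbp
      · refine absurd ?_ hzB
        rw [← hbp]; simpa using hb
      · rw [show g = b⁻¹ * d.z by rw [← hbp]; group]
        exact Subgroup.mul_mem _ (Subgroup.inv_mem _ (Subgroup.mem_sup_left hb))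
          (Subgroup.mem_sup_right (Subgroup.mem_zpowers _))
      · rw [show g = d.z⁻¹ * b by rw [← hbp]; group]
        exact Subgroup.mul_mem _ (Subgroup.inv_mem _ (Subgroup.mem_sup_right (Subgroup.mem_zpowers _)))
          (Subgroup.mem_sup_left hb)
    have key : ∀ v : V4, ∃ i : ZMod 3, d.κ (v + i.val • zc) ∈ B := by
      intro v
      have hc : Subgroup.zpowers d.z ≤ Subgroup.normalizer (B : Set G) := Subgroup.zpowers_le.2
        (Subgroup.mem_normalizer_fintype fun b hb => by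
          rwa [conj_eq_of_commute (d.J_comm _ d.z_mem_J b (hB hb))])
      have hj : d.κ v ∈ ((B ⊔ Subgroup.zpowers d.z : Subgroup G) : Set G) := hJle (d.κ_mem_J v)
      rw [Subgroup.coe_mul_of_right_le_normalizer_left _ _ hc] at hj
      obtain ⟨b, hb, p, hp, hbp⟩ := hj
      have hb' : d.κ v * p⁻¹ ∈ B := by rw [← hbp]; simpa using hb
      rcases three_cases d.z_cube hp with rfl | rfl | rfl
      · exact ⟨0, by simpa using hb'⟩
      · refine ⟨2, ?_⟩
        rw [d.κ_add, d.κ_nsmul, d.κ_zc, show (2 : ZMod 3).val = 2 from rfl, pow_two, ← inv_eq_sq d.z_cube]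
        exact hb'
      · refine ⟨1, ?_⟩
        rw [d.κ_add, d.κ_nsmul, d.κ_zc, ZMod.val_one, pow_one]
        simpa using hb'
    obtain ⟨i, hi⟩ := key (0, 1, 0, 0)
    obtain ⟨j, hj⟩ := key (0, 0, 1, 0)
    obtain ⟨k, hk⟩ := key (0, 0, 0, 1)
    obtain ⟨a, b, c, habc⟩ := hyperplane i j k
    have e : ∀ (i : ZMod 3) (x y u : ZMod 3), ((0 : ZMod 3), x, y, u) + i.val • zc = ((i, x, y, u) : V4) := by
      decide +kernel
    rw [e] at hi hj hk
    refine ⟨_, ?_, (d.sg_κ _).2 habc⟩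
    rw [d.κ_add, d.κ_add, d.κ_nsmul, d.κ_nsmul, d.κ_nsmul]
    exact B.mul_mem (B.mul_mem (B.pow_mem hi _) (B.pow_mem hj _)) (B.pow_mem hk _)
  obtain ⟨b, hb, hbv⟩ := hbig v (d.sg_mem_J hv)
  rintro k ⟨hkK, hkB⟩
  have hkN := d.norm_of_sing hv (hB hb) hbv (hkB v hvB).symm (hkB b hb).symm
  have hdisj : ∀ u ∈ K, u ∈ d.J → u = 1 := fun u hu hu' => by
    refine orderOf_eq_one_iff.1 (Nat.dvd_one.1 ?_)
    rw [← hK.gcd_eq_one]
    exact Nat.dvd_gcd (Subgroup.orderOf_mk u hu ▸ orderOf_dvd_natCard _)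
      (orderOf_dvd_of_pow_eq_one (d.J_exp u hu'))
  have hc : ∀ j ∈ d.J, k * j = j * k := fun j hj => by
    refine commute_of_conj_eq (mul_inv_eq_one.1 (hdisj _ ?_ ?_))
    · rw [show k * j * k⁻¹ * j⁻¹ = k * (j * k⁻¹ * j⁻¹) by group]
      exact K.mul_mem hkK ((Subgroup.mem_normalizer_iff.1 (hJK hj) _).1 (K.inv_mem hkK))
    · exact d.J.mul_mem ((Subgroup.mem_normalizer_iff.1 hkN j).1 hj) (d.J.inv_mem hj)
  exact Subgroup.mem_bot.2 (hdisj k hkK (d.mem_J_of_commute_J hc))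

/-- An element of the stabiliser fixing `z` and `w`, adjusted to commute with `t`. -/
theorem mat_fix_P {x : G} (hx : x ∈ d.T2) (hz : x * d.z * x⁻¹ = d.z) (hw : x * d.w * x⁻¹ = d.w) :
    d.mat x ∈ ([1, -1, rot, -rot] : List Mat3) := by
  have hxi := d.T2.inv_mem hx
  set i := d.t⁻¹ * (x * d.t * x⁻¹) with hi
  have hyT := d.T2.mul_mem (d.T2.inv_mem d.t_mem_T2) (d.T2.mul_mem (d.T2.mul_mem hx d.t_mem_T2) hxi)
  have hinv : d.mat x * d.mat x⁻¹ = 1 := by rw [← d.mat_mul hx hxi, mul_inv_cancel, d.mat_one]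
  have hiJ : i ∈ d.J := by
    refine d.mem_J_of_trivial hyT ?_ ?_
    · have hxz : Commute x d.z := commute_of_conj_eq hz
      exact conj_eq_of_commute ((show Commute d.t d.z from d.t_z).inv_left.mul_left
        ((hxz.mul_left d.t_z).mul_left hxz.inv_left)).eq
    · rw [hi, d.mat_mul (d.T2.inv_mem d.t_mem_T2) (d.T2.mul_mem (d.T2.mul_mem hx d.t_mem_T2) hxi),
        d.mat_mul (d.T2.mul_mem hx d.t_mem_T2) hxi, d.mat_mul hx d.t_mem_T2, d.mat_t, d.t_inv, d.mat_t]
      simp [hinv]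
  have hinvi : d.t * i * d.t⁻¹ = i⁻¹ := by
    refine eq_inv_of_mul_eq_one_left ?_
    calc d.t * i * d.t⁻¹ * i = (x * d.t * x⁻¹) * (d.t⁻¹ * d.t⁻¹) * (x * d.t * x⁻¹) := by rw [hi]; group
      _ = x * d.t * x⁻¹ * 1 * (x * d.t * x⁻¹) := by rw [d.t_inv, d.t_sq]
      _ = x * (d.t * d.t) * x⁻¹ := by group
      _ = 1 := by rw [d.t_sq, mul_one, mul_inv_cancel]
  have hxt : x * d.t * x⁻¹ = d.t * i := by rw [hi]; group
  have hyt : i⁻¹ * x * d.t = d.t * (i⁻¹ * x) := by
    refine commute_of_conj_eq ?_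
    have hti : d.t⁻¹ * i⁻¹ * d.t = i := by
      have e1 : d.t⁻¹ * (d.t * i * d.t⁻¹) * d.t = i := by group
      rwa [hinvi] at e1
    calc i⁻¹ * x * d.t * (i⁻¹ * x)⁻¹ = i⁻¹ * (x * d.t * x⁻¹) * i := by group
      _ = d.t * ((d.t⁻¹ * i⁻¹ * d.t) * i * i) := by rw [hxt]; group
      _ = d.t * i ^ 3 := by rw [hti]; simp only [pow_succ, pow_zero, one_mul]
      _ = d.t := by rw [d.J_exp i hiJ, mul_one]
  have hiT := d.T2.inv_mem (d.J_le_T2 hiJ)
  have hfix : ∀ u ∈ d.J, x * u * x⁻¹ = u → i⁻¹ * x * u * (i⁻¹ * x)⁻¹ = u := fun u hu h => by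
    rw [show i⁻¹ * x * u * (i⁻¹ * x)⁻¹ = i⁻¹ * (x * u * x⁻¹) * i⁻¹⁻¹ by group, h]
    exact conj_eq_of_commute (d.J_comm _ (d.J.inv_mem hiJ) _ hu)
  have h := d.mat_cent_P (d.T2.mul_mem hiT hx) (hfix _ d.z_mem_J hz) (hfix _ d.w_mem_J hw) hyt
  rw [d.mat_mul hiT hx, d.mat_J (d.J.inv_mem hiJ), one_mul] at h
  simpa [List.mem_cons, List.not_mem_nil] using h

/-- No element of `N(J)` centralizing `E` exchanges the lines of `z` and `w`. -/
theorem no_swap {y : G} (hy : y ∈ Subgroup.normalizer (d.J : Set G)) (hE : ∀ e ∈ d.E, y * e = e * y)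
    (hz : y * d.z * y⁻¹ = d.w ∨ y * d.z * y⁻¹ = d.w⁻¹)
    (hw : y * d.w * y⁻¹ = d.z ∨ y * d.w * y⁻¹ = d.z⁻¹) : False := by
  set x := d.n * y with hxdef
  have hxc : ∀ u, x * u * x⁻¹ = d.n * (y * u * y⁻¹) * d.n⁻¹ := fun u => by rw [hxdef]; group
  have hx : x ∈ d.T2 := by
    refine ⟨Subgroup.mul_mem _ d.n_NJ hy, ?_, ?_⟩
    · rw [hxc]
      rcases hz with e | e <;> rw [e]
      · exact Or.inl d.n_w
      · exact Or.inr (by rw [← conj_inv, d.n_w])
    · rw [hxc]
      rcases hw with e | e <;> rw [e]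
      · exact Or.inl d.n_z
      · exact Or.inr (by rw [← conj_inv, d.n_z])
  have hxE : ∀ v, d.n * d.ι v * d.n⁻¹ = d.ι ((d.mat x).mulVec v) := fun v => by
    rw [← d.mat_apply hx, hxc, conj_eq_of_commute (hE _ (d.ι_mem v))]
  have hn2 : ∀ u : G, d.n * (d.n * u * d.n⁻¹) * d.n⁻¹ = u := fun u => by
    calc d.n * (d.n * u * d.n⁻¹) * d.n⁻¹ = d.n * d.n * u * (d.n * d.n)⁻¹ := by group
      _ = u := by rw [d.n_sq, one_mul, inv_one, mul_one]
  have hM2 : d.mat x * d.mat x = 1 := by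
    refine Matrix.ext_of_mulVec_single fun j => d.ι_inj ?_
    rw [← Matrix.mulVec_mulVec, ← hxE, ← hxE, hn2, Matrix.one_mulVec]
  have hMg : d.mat x * rot = -(rot * d.mat x) := by
    refine Matrix.ext_of_mulVec_single fun j => d.ι_inj ?_
    rw [← Matrix.mulVec_mulVec, ← hxE]
    have hπ : d.π₆ (d.n * d.g) = d.π₆ (d.g⁻¹ * d.n) := by
      rw [d.map₆ _ d.n_mem _ d.g_mem, d.map₆ _ (d.M₀.inv_mem d.g_mem) _ d.n_mem, d.π₆_inv d.g_mem, d.π_n, d.π_g]
      decide +kernel
    have hv := d.ι_mem (Pi.single j (1 : ZMod 3))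
    rw [← d.mat_g, ← d.mat_apply d.g_mem_T2]
    calc d.n * (d.g * d.ι (Pi.single j 1) * d.g⁻¹) * d.n⁻¹
        = d.n * d.g * d.ι (Pi.single j 1) * (d.n * d.g)⁻¹ := by group
      _ = d.g⁻¹ * d.n * d.ι (Pi.single j 1) * (d.g⁻¹ * d.n)⁻¹ :=
          d.act_eq (d.M₀.mul_mem d.n_mem d.g_mem) (d.M₀.mul_mem (d.M₀.inv_mem d.g_mem) d.n_mem) hπ
            (d.E_le_J hv)
      _ = d.g⁻¹ * (d.n * d.ι (Pi.single j 1) * d.n⁻¹) * d.g⁻¹⁻¹ := by group
      _ = d.ι ((-(d.mat d.g * d.mat x)).mulVec (Pi.single j 1)) := by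
          rw [hxE, Matrix.neg_mulVec, ← Matrix.mulVec_mulVec]
          set v := (d.mat x).mulVec (Pi.single j 1)
          have hneg : ∀ u, d.ι (-u) = (d.ι u)⁻¹ := fun u => by
            refine eq_inv_of_mul_eq_one_left ?_
            rw [← d.ι_add, neg_add_cancel, d.ι_zero]
          have hgg : d.g * (d.g * d.ι v * d.g⁻¹) * d.g⁻¹ = (d.ι v)⁻¹ := by
            rw [show d.g * (d.g * d.ι v * d.g⁻¹) * d.g⁻¹ = d.g * d.g * d.ι v * (d.g * d.g)⁻¹ by group,
              d.g_sq, d.t_conj_E (d.ι_mem v)]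
          rw [hneg, ← d.mat_apply d.g_mem_T2]
          have e1 : d.g⁻¹ * (d.g * (d.g * d.ι v * d.g⁻¹) * d.g⁻¹) * d.g⁻¹⁻¹ = d.g * d.ι v * d.g⁻¹ := by group
          rw [hgg, ← conj_inv] at e1
          rw [← e1]
          simp only [inv_inv]
  obtain ⟨hc2, hca⟩ := d.mat_c
  obtain ⟨k, hkT, hKm, hkz, hkw⟩ : ∃ k, k ∈ d.T2 ∧ d.mat k ∈ ([1, rot, d.mat d.c, rot * d.mat d.c] : List Mat3) ∧
      k * (x * d.z * x⁻¹) * k⁻¹ = d.z ∧ k * (x * d.w * x⁻¹) * k⁻¹ = d.w := by
    have hcw : d.c * d.w * d.c⁻¹ = d.w⁻¹ := d.c_w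
    rcases hx.2.1 with e1 | e1 <;> rcases hx.2.2 with e2 | e2 <;> rw [e1, e2]
    · exact ⟨1, d.T2.one_mem, by simp [d.mat_one], by simp, by simp⟩
    · exact ⟨d.c, d.c_mem_T2, by simp, d.c_z, by rw [← conj_inv, hcw, inv_inv]⟩
    · exact ⟨d.g * d.c, d.gc_T2, by simp [d.mat_gc], by rw [← conj_inv, d.gc_z, inv_inv], d.gc_w⟩
    · exact ⟨d.g, d.g_mem_T2, by simp [d.mat_g], by rw [← conj_inv, d.g_z_w.1, inv_inv],
        by rw [← conj_inv, d.g_z_w.2, inv_inv]⟩
  have h := d.mat_fix_P (d.T2.mul_mem hkT hx) (Eq.trans (by group) hkz) (Eq.trans (by group) hkw)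
  rw [d.mat_mul hkT hx] at h
  exact mat_swap _ _ hc2 hca hM2 hMg _ hKm h

/-- An element of `N(J)` centralizing `E` lies in `J` or inverts `P`. -/
theorem NJ_cent_E {y : G} (hy : y ∈ Subgroup.normalizer (d.J : Set G)) (hE : ∀ e ∈ d.E, y * e = e * y) :
    y ∈ d.J ∨ (y * d.z * y⁻¹ = d.z⁻¹ ∧ y * d.w * y⁻¹ = d.w⁻¹) := by
  have key : ∀ v : V4, sgc v → (∀ k l, critc v (0, 0, k, l)) →
      ∃ u : V4, y * d.κ v * y⁻¹ = d.κ u ∧ (inLine zc u ∨ inLine wc u) := by
    intro v hv hc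
    obtain ⟨u, hu⟩ := d.exists_κ ((Subgroup.mem_normalizer_iff.1 hy _).1 (d.κ_mem_J v))
    refine ⟨u, hu.symm, perp_E u ((d.sg_κ u).1 ?_) fun k l => ?_⟩
    · rw [hu, d.sg_NJ hy (d.κ_mem_J v)]; exact (d.sg_κ v).2 hv
    · have h := d.crit_conj hy (d.κ_mem_J v) (d.κ_mem_J _) ((d.crit_κ v _).2 (hc k l))
      rw [← hu, conj_eq_of_commute (hE _ (d.mem_E_iff_κ.2 ⟨rfl, rfl⟩)), d.crit_κ] at h
      exact h
  have cases' : ∀ v : V4, sgc v → (∀ k l, critc v (0, 0, k, l)) →
      y * d.κ v * y⁻¹ = d.z ∨ y * d.κ v * y⁻¹ = d.z⁻¹ ∨ y * d.κ v * y⁻¹ = d.w ∨ y * d.κ v * y⁻¹ = d.w⁻¹ := by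
    intro v hv hc
    obtain ⟨u, hu, hl⟩ := key v hv hc
    have hne : u ≠ 0 := by
      rintro rfl
      rw [d.κ_zero] at hu
      exact d.sg_ne_one ((d.sg_κ v).2 hv) (conj_eq_one_iff.1 hu)
    rw [hu]
    rcases hl with (rfl | rfl | rfl) | (rfl | rfl | rfl)
    · exact absurd rfl hne
    · exact Or.inl d.κ_zc
    · exact Or.inr (Or.inl (by rw [d.κ_neg, d.κ_zc]))
    · exact absurd rfl hne
    · exact Or.inr (Or.inr (Or.inl d.κ_wc))
    · exact Or.inr (Or.inr (Or.inr (by rw [d.κ_neg, d.κ_wc])))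
  have hz := cases' zc (by decide +kernel) fun k l => (crit_E' k l).1
  have hw := cases' wc (by decide +kernel) fun k l => (crit_E' k l).2
  rw [d.κ_zc] at hz
  rw [d.κ_wc] at hw
  have hdiff : y * d.z * y⁻¹ ≠ y * d.w * y⁻¹ ∧ y * d.z * y⁻¹ ≠ (y * d.w * y⁻¹)⁻¹ := by
    refine ⟨fun e => d.zw_distinct (Or.inl rfl) (Or.inl rfl) (mul_left_cancel (mul_right_cancel e)), fun e => ?_⟩
    rw [conj_inv] at e
    exact d.zw_distinct (Or.inl rfl) (Or.inr rfl) (mul_left_cancel (mul_right_cancel e))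
  have hT : (y * d.z * y⁻¹ = d.z ∨ y * d.z * y⁻¹ = d.z⁻¹) ∧ (y * d.w * y⁻¹ = d.w ∨ y * d.w * y⁻¹ = d.w⁻¹) := by
    rcases hz with a | a | a | a <;> rcases hw with b | b | b | b <;> rw [a, b] at hdiff <;>
      simp only [ne_eq, not_true_eq_false, inv_inv, and_false, false_and] at hdiff
    · exact ⟨Or.inl a, Or.inl b⟩
    · exact ⟨Or.inl a, Or.inr b⟩
    · exact ⟨Or.inr a, Or.inl b⟩
    · exact ⟨Or.inr a, Or.inr b⟩
    · exact (d.no_swap hy hE (Or.inl a) (Or.inl b)).elim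
    · exact (d.no_swap hy hE (Or.inl a) (Or.inr b)).elim
    · exact (d.no_swap hy hE (Or.inr a) (Or.inl b)).elim
    · exact (d.no_swap hy hE (Or.inr a) (Or.inr b)).elim
  have hyT : y ∈ d.T2 := ⟨hy, hT.1, hT.2⟩
  have hm : d.mat y = 1 := d.mat_ext hyT fun v => by
    rw [Matrix.one_mulVec, conj_eq_of_commute (hE _ (d.ι_mem v))]
  rcases hT.1 with a | a
  · exact Or.inl (d.mem_J_of_trivial hyT a hm)
  · refine Or.inr ⟨a, hT.2.resolve_left fun b => ?_⟩
    exact d.ne_inv d.sg_z ((d.w_fixed hyT b hm).symm.trans a)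

/-- `C(E) ≤ N(J)`. -/
theorem cent_E_le {g : G} (hg : ∀ e ∈ d.E, g * e = e * g) : g ∈ Subgroup.normalizer (d.J : Set G) := by
  classical
  haveI := Fact.mk Nat.prime_three
  set Y := Subgroup.centralizer (d.E : Set G) with hY
  have hmemY : ∀ {u}, u ∈ Y ↔ ∀ e ∈ d.E, u * e = e * u := fun {u} =>
    ⟨fun h e he => (h e he).symm, fun h e he => (h e he).symm⟩
  have hJY : d.J ≤ Y := fun j hj => hmemY.2 fun e he => d.J_comm j hj e (d.E_le_J he)
  set JY := d.J.subgroupOf Y with hJYdef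
  have hpJ : IsPGroup 3 d.J := IsPGroup.of_card (n := 4) (by rw [d.J_card]; rfl)
  obtain ⟨P, hP⟩ := (hpJ.comap_subtype (K := Y)).exists_le_sylow
  have hPJ : (P : Subgroup Y) = JY := by
    refine le_antisymm (fun u hu => ?_) hP
    set T := (P : Subgroup Y).map Y.subtype
    have hJT : d.J ≤ T := fun j hj => ⟨⟨j, hJY hj⟩, hP hj, rfl⟩
    obtain ⟨y, hy, hyS⟩ := d.exists_conj_into_S (P.isPGroup'.map _) hJT
    have hus := hyS u ⟨u, hu, rfl⟩
    set s := y * (u : G) * y⁻¹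
    suffices hsJ : s ∈ d.J from Subgroup.mem_subgroupOf.2 ((Subgroup.mem_normalizer_iff.1 hy _).2 hsJ)
    by_contra hsJ
    have hE' : ∀ e ∈ d.E, y * e * y⁻¹ ∈ d.A ∧ s * (y * e * y⁻¹) = y * e * y⁻¹ * s := by
      intro e he
      have hc : s * (y * e * y⁻¹) = y * e * y⁻¹ * s := by rw [conj_mul, conj_mul, hmemY.1 u.2 e he]
      exact ⟨d.mem_A_of_fix hus hsJ ((Subgroup.mem_normalizer_iff.1 hy e).1 (d.E_le_J he)) hc, hc⟩
    set E' := d.E.map (MulAut.conj y).toMonoidHom with hE'def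
    have hE'A : E' ≤ d.A := by rintro _ ⟨e, he, rfl⟩; exact (hE' e he).1
    have hinf : (E' ⊓ d.Z : Subgroup G) = ⊥ := by
      rw [eq_bot_iff]
      rintro _ ⟨⟨e, he, rfl⟩, hZ⟩
      change y * e * y⁻¹ ∈ d.Z at hZ
      show y * e * y⁻¹ ∈ (⊥ : Subgroup G)
      rcases three_cases d.z_cube hZ with e1 | e1 | e1
      · exact Subgroup.mem_bot.2 e1
      all_goals
        exfalso
        have hsg : d.Sg e := (d.sg_NJ hy (d.E_le_J he)).1 (by
          rw [e1]; first | exact d.sg_z | exact d.sg_inv d.sg_z)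
        exact d.sg_ne_one hsg (d.eq_of_ZE d.Z.one_mem (d.sg_A hsg (d.E_le_A he)) he d.E.one_mem
          (by rw [one_mul, mul_one])).2
    have h := card_mul_le (L := E' ⊔ d.Z) (le_sup_left : E' ≤ _) (le_sup_right : d.Z ≤ _)
    rw [hinf, Subgroup.card_bot, mul_one, hE'def, Subgroup.card_map_of_injective (MulAut.conj y).injective,
      d.card_E, d.card_Z, ← hE'def] at h
    have heq : E' ⊔ d.Z = d.A := Subgroup.eq_of_le_of_card_ge (sup_le hE'A d.Z_le_A) (by rw [d.card_A]; omega)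
    refine hsJ (d.mem_J_of_commute hus fun a ha => ?_)
    rw [← heq] at ha
    have hle : E' ⊔ d.Z ≤ Subgroup.centralizer ({s} : Set G) := by
      refine sup_le ?_ (fun v hv => mem_centralizer_one.2 (d.L₀_Z (d.S_le_L₀ hus) hv).symm)
      rintro _ ⟨e, he, rfl⟩
      exact mem_centralizer_one.2 (hE' e he).2.symm
    exact (mem_centralizer_one.1 (hle ha)).symm
  have hfromP : ∀ {v : Y}, v ∈ (P : Subgroup Y) → (v : G) ∈ d.J := fun {v} hv => by
    rw [hPJ] at hv; exact hv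
  have hnorm : ∀ y ∈ Subgroup.normalizer ((P : Subgroup Y) : Set Y), (y : G) ∈ Subgroup.normalizer (d.J : Set G) := by
    intro y hy
    refine Subgroup.mem_normalizer_fintype fun j hj => ?_
    exact hfromP ((Subgroup.mem_normalizer_iff.1 hy ⟨j, hJY hj⟩).1 (hPJ ▸ hj))
  by_cases hinv : ∃ y ∈ Y, y ∈ Subgroup.normalizer (d.J : Set G) ∧
      y * d.z * y⁻¹ = d.z⁻¹ ∧ y * d.w * y⁻¹ = d.w⁻¹
  · obtain ⟨y, hyY, hyN, hyz, hyw⟩ := hinv
    set EY := d.E.subgroupOf Y with hEY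
    haveI hEYn : EY.Normal := ⟨fun e he v => by
      show (v : G) * e * (v : G)⁻¹ ∈ d.E
      rw [conj_eq_of_commute (hmemY.1 v.2 _ (show (e : G) ∈ d.E from he))]; exact he⟩
    let f := QuotientGroup.mk' EY
    have hEYcard : Nat.card EY = 9 := by
      rw [hEY, Nat.card_congr (Subgroup.subgroupOfEquivOfLe (d.E_le_J.trans hJY)).toEquiv, d.card_E]
    have hf : Function.Surjective f := QuotientGroup.mk'_surjective _
    let Pb := P.mapSurjective hf
    have hyP : ∀ p ∈ d.P, y * p * y⁻¹ = p⁻¹ := by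
      intro p hp
      obtain ⟨i, -, j, -, rfl⟩ := d.exists_P_pow hp
      rw [← conj_mul, ← conj_pow, ← conj_pow, hyz, hyw, inv_pow, inv_pow, mul_inv_rev,
        d.J_comm _ (d.J.inv_mem (d.J.pow_mem d.w_mem_J _)) _ (d.J.inv_mem (d.J.pow_mem d.z_mem_J _))]
    have hfeq : ∀ {a b : Y}, (a : G)⁻¹ * b ∈ d.E → f a = f b := fun {a b} h => QuotientGroup.eq.2 h
    have hinvert : ∀ j : Y, (j : G) ∈ d.J → f (⟨y, hyY⟩ * j * ⟨y, hyY⟩⁻¹) = f j⁻¹ := by
      intro j hj
      refine hfeq ?_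
      show (y * (j : G) * y⁻¹)⁻¹ * (j : G)⁻¹ ∈ d.E
      obtain ⟨p, hp, e, he, hje⟩ := d.exists_decomp hj
      rw [hje, ← conj_mul, hyP p hp, conj_eq_of_commute (hmemY.1 hyY e he)]
      have hcm := d.J_comm _ (d.P_le_J hp) _ (d.J.inv_mem (d.E_le_J he))
      rw [show (p⁻¹ * e)⁻¹ * (p * e)⁻¹ = e⁻¹ * p * (e⁻¹ * p⁻¹) by group, ← hcm]
      have : p * e⁻¹ * (e⁻¹ * p⁻¹) = p * (e⁻¹ * e⁻¹) * p⁻¹ := by group
      rw [this, conj_eq_of_commute (d.J_comm _ (d.P_le_J hp) _ (d.J.mul_mem (d.J.inv_mem (d.E_le_J he))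
        (d.J.inv_mem (d.E_le_J he))))]
      exact d.E.mul_mem (d.E.inv_mem he) (d.E.inv_mem he)
    have hPb : ∀ {b}, b ∈ (Pb : Subgroup (Y ⧸ EY)) → ∃ a : Y, (a : G) ∈ d.J ∧ f a = b := by
      rintro _ ⟨a, ha, rfl⟩; exact ⟨a, hfromP ha, rfl⟩
    have hcard : Nat.card (Pb : Subgroup (Y ⧸ EY)) = 9 := by
      have h1 := Subgroup.card_eq_card_quotient_mul_card_subgroup (f.subgroupMap (P : Subgroup Y)).ker
      rw [Nat.card_congr (QuotientGroup.quotientKerEquivOfSurjective _ (f.subgroupMap_surjective _)).toEquiv] at h1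
      have h2 : (f.subgroupMap (P : Subgroup Y)).ker = EY.subgroupOf (P : Subgroup Y) := by
        ext a
        rw [MonoidHom.mem_ker, Subgroup.mem_subgroupOf, Subtype.ext_iff]
        exact QuotientGroup.eq_one_iff (a : Y)
      have hEP : EY ≤ (P : Subgroup Y) := fun e he => hP (d.E_le_J he)
      rw [h2, Nat.card_congr (Subgroup.subgroupOfEquivOfLe hEP).toEquiv, hEYcard, hPJ,
        hJYdef, Nat.card_congr (Subgroup.subgroupOfEquivOfLe hJY).toEquiv, d.J_card, ← hJYdef, ← hPJ] at h1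
      change 81 = Nat.card (Pb : Subgroup (Y ⧸ EY)) * 9 at h1
      omega
    have hyp : InvertedSylow.Hyp Pb :=
      { comm := ⟨⟨fun a b => by
          obtain ⟨a', ha, hfa⟩ := hPb a.2
          obtain ⟨b', hb, hfb⟩ := hPb b.2
          refine Subtype.ext ?_
          show (a : Y ⧸ EY) * b = b * a
          rw [← hfa, ← hfb, ← map_mul, ← map_mul]
          exact congrArg f (Subtype.ext (d.J_comm _ ha _ hb))⟩⟩
        odd := by norm_num
        ncyc := fun hc => by
          obtain ⟨c, hc'⟩ := hc.exists_generator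
          have h9 : orderOf c = 9 := by rw [orderOf_eq_card_of_forall_mem_zpowers hc', hcard]
          obtain ⟨a, ha, hfa⟩ := hPb c.2
          have : c ^ 3 = 1 := Subtype.ext (by
            rw [SubmonoidClass.coe_pow, ← hfa, ← map_pow, show a ^ 3 = 1 from Subtype.ext (d.J_exp _ ha), map_one]
            rfl)
          have := orderOf_dvd_of_pow_eq_one this
          rw [h9] at this
          norm_num at this
        fus := by
          intro b hb c hc
          obtain ⟨a, ha, rfl⟩ := hPb hb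
          obtain ⟨c, rfl⟩ := hf c
          obtain ⟨a', ha', hca⟩ := hPb hc
          have hcJ : (c : G) * a * (c : G)⁻¹ ∈ d.J := by
            rw [← map_inv, ← map_mul, ← map_mul] at hca
            have h0 : a'⁻¹ * (c * a * c⁻¹) ∈ EY := QuotientGroup.eq.1 hca
            have h1 : ((a' : G))⁻¹ * ((c * a * c⁻¹ : Y) : G) ∈ d.E := h0
            have := d.J.mul_mem ha' (d.E_le_J h1)
            rwa [mul_inv_cancel_left] at this
          haveI : IsMulCommutative (P : Subgroup Y) :=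
            ⟨⟨fun p q => Subtype.ext (Subtype.ext (d.J_comm _ (hfromP p.2) _ (hfromP q.2)))⟩⟩
          obtain ⟨m, hm, hme⟩ := Transfer.normalizer_control_of_comm P a (hPJ ▸ ha) c (hPJ ▸ hcJ)
          rw [← map_inv f c, ← map_mul, ← map_mul, ← hme]
          rcases d.NJ_cent_E (hnorm m hm) (hmemY.1 m.2) with h | ⟨hmz, hmw⟩
          · left
            exact congrArg f (Subtype.ext (conj_eq_of_commute (d.J_comm _ h _ ha)))
          · right
            have hyi : y⁻¹ * (m : G) ∈ d.J := by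
              refine d.eq_of_action ?_ ?_ fun e he => ?_
              · refine commute_of_conj_eq ?_
                calc y⁻¹ * m * d.z * (y⁻¹ * m)⁻¹ = y⁻¹ * ((m : G) * d.z * (m : G)⁻¹) * y := by group
                  _ = y⁻¹ * (y * d.z * y⁻¹) * y := by rw [hmz, hyz]
                  _ = d.z := by group
              · refine commute_of_conj_eq ?_
                calc y⁻¹ * m * d.w * (y⁻¹ * m)⁻¹ = y⁻¹ * ((m : G) * d.w * (m : G)⁻¹) * y := by group
                  _ = y⁻¹ * (y * d.w * y⁻¹) * y := by rw [hmw, hyw]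
                  _ = d.w := by group
              · exact ((show Commute y e from hmemY.1 hyY e he).inv_left.mul_left (hmemY.1 m.2 e he)).eq
            rw [← map_inv, ← hinvert a ha]
            refine congrArg f (Subtype.ext ?_)
            show (m : G) * a * (m : G)⁻¹ = y * (a : G) * y⁻¹
            calc (m : G) * a * (m : G)⁻¹ = y * ((y⁻¹ * m) * a * (y⁻¹ * (m : G))⁻¹) * y⁻¹ := by group
              _ = _ := by rw [conj_eq_of_commute (d.J_comm _ hyi _ ha)]
        inv := ⟨f ⟨y, hyY⟩, fun b hb => by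
          obtain ⟨a, ha, rfl⟩ := hPb hb
          rw [← map_inv, ← map_inv, ← map_mul, ← map_mul, hinvert a ha]⟩ }
    have hcore : pPrimeCore 3 (Y ⧸ EY) = ⊥ := by
      set O := pPrimeCore 3 (Y ⧸ EY)
      set K := O.comap f with hKdef
      have hEK : EY ≤ K := fun e he => by
        rw [hKdef, Subgroup.mem_comap, show f e = 1 from (QuotientGroup.eq_one_iff e).2 he]
        exact one_mem _
      have hKcard : Nat.card K = 9 * Nat.card O := by
        have h1 := Subgroup.card_eq_card_quotient_mul_card_subgroup (f.subgroupComap O).ker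
        rw [Nat.card_congr (QuotientGroup.quotientKerEquivOfSurjective _
          (f.subgroupComap_surjective_of_surjective O hf)).toEquiv] at h1
        have h2 : (f.subgroupComap O).ker = EY.subgroupOf K := by
          ext a
          rw [MonoidHom.mem_ker, Subgroup.mem_subgroupOf, Subtype.ext_iff]
          exact QuotientGroup.eq_one_iff (a : Y)
        rw [h2, Nat.card_congr (Subgroup.subgroupOfEquivOfLe hEK).toEquiv, hEYcard] at h1
        rw [hKdef, mul_comm]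
        exact h1
      have hOc := Cores.coprime_card_pPrimeCore (G := Y ⧸ EY) 3
      have hEcard : Nat.card (EY.subgroupOf K) = 9 := by
        rw [Nat.card_congr (Subgroup.subgroupOfEquivOfLe hEK).toEquiv, hEYcard]
      let PK : Sylow 3 K := Sylow.ofCard (EY.subgroupOf K) (by
        rw [hEcard, hKcard, Nat.factorization_mul (by norm_num) Nat.card_pos.ne', Finsupp.add_apply,
          Nat.factorization_eq_zero_of_not_dvd (Nat.prime_three.coprime_iff_not_dvd.1 hOc.symm), add_zero,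
          show (9 : ℕ) = 3 ^ 2 by norm_num, Nat.factorization_pow, Finsupp.smul_apply,
          Nat.Prime.factorization_self Nat.prime_three]
        norm_num)
      have hnpc : HasNormalPComplement 3 K := by
        refine Transfer.hasNormalPComplement_of_normalizer_le_centralizer PK fun n _ => ?_
        refine Subgroup.mem_centralizer_iff.2 fun e he => Subtype.ext (Subtype.ext ?_)
        exact (hmemY.1 (n : Y).2 _ he).symm
      have hR := Transfer.hasNormalPComplement_iff_coprime.1 hnpc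
      set R := ((pResidual 3 K).map K.subtype).map Y.subtype
      have hR1 : R = ⊥ := by
        haveI : K.Normal := Subgroup.Normal.comap inferInstance f
        have hn := Cores.map_subtype_normal_of_characteristic K (pResidual 3 K)
        refine d.eq_bot_of_invariant ?_ ?_
        · intro j hj
          refine Subgroup.mem_normalizer_fintype ?_
          rintro _ ⟨r, hr, rfl⟩
          exact ⟨⟨j, hJY hj⟩ * r * ⟨j, hJY hj⟩⁻¹, hn.conj_mem r hr _, rfl⟩
        · rw [Subgroup.card_map_of_injective Y.subtype_injective,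
            Subgroup.card_map_of_injective K.subtype_injective]
          exact hR
      rw [Subgroup.map_eq_bot_iff_of_injective _ Y.subtype_injective,
        Subgroup.map_eq_bot_iff_of_injective _ K.subtype_injective] at hR1
      obtain ⟨k, hk⟩ := Transfer.exists_index_pResidual (G := K) (p := 3)
      rw [hR1, Subgroup.index_bot, hKcard] at hk
      have hdvd : Nat.card O ∣ 3 ^ k := ⟨9, by rw [← hk]; ring⟩
      rw [← Subgroup.card_eq_one]
      exact Nat.eq_one_of_dvd_coprimes (hOc.pow_right k) dvd_rfl hdvd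
    have hn := InvertedSylow.normal_of_pPrimeCore_eq_bot _ (Y ⧸ EY) rfl Pb hyp hcore
    refine Subgroup.mem_normalizer_fintype fun j hj => ?_
    obtain ⟨a, ha, hfa⟩ := hPb (hn.conj_mem (f ⟨j, hJY hj⟩) ⟨_, hPJ ▸ hj, rfl⟩ (f ⟨g, hmemY.2 hg⟩))
    rw [← map_inv, ← map_mul, ← map_mul] at hfa
    have h0 : a⁻¹ * (⟨g, hmemY.2 hg⟩ * ⟨j, hJY hj⟩ * ⟨g, hmemY.2 hg⟩⁻¹) ∈ EY := QuotientGroup.eq.1 hfa
    have h1 : ((a : G))⁻¹ * (g * j * g⁻¹) ∈ d.E := h0
    have := d.J.mul_mem ha (d.E_le_J h1)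
    rwa [mul_inv_cancel_left] at this
  · push Not at hinv
    have hnpc : HasNormalPComplement 3 Y := by
      refine Transfer.hasNormalPComplement_of_normalizer_le_centralizer P fun m hm => ?_
      have hmN := hnorm m hm
      rcases d.NJ_cent_E hmN (hmemY.1 m.2) with h | ⟨hmz, hmw⟩
      · exact Subgroup.mem_centralizer_iff.2 fun p hp => Subtype.ext (d.J_comm _ (hfromP hp) _ h)
      · exact absurd hmw (hinv _ m.2 hmN hmz)
    have hR := Transfer.hasNormalPComplement_iff_coprime.1 hnpc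
    have hR1 : (pResidual 3 Y).map Y.subtype = ⊥ := by
      refine d.eq_bot_of_invariant ?_ ?_
      · intro j hj
        refine Subgroup.mem_normalizer_fintype ?_
        rintro _ ⟨r, hr, rfl⟩
        exact ⟨⟨j, hJY hj⟩ * r * ⟨j, hJY hj⟩⁻¹, (inferInstance : (pResidual 3 Y).Normal).conj_mem r hr _, rfl⟩
      · rw [Subgroup.card_map_of_injective Y.subtype_injective]; exact hR
    rw [Subgroup.map_eq_bot_iff_of_injective _ Y.subtype_injective] at hR1
    obtain ⟨k, hk⟩ := Transfer.exists_index_pResidual (G := Y) (p := 3)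
    rw [hR1, Subgroup.index_bot] at hk
    have htop : (P : Subgroup Y) = ⊤ :=
      (P.is_maximal' (IsPGroup.of_card (n := k) (by rw [Subgroup.card_top, hk])) le_top).symm
    have hgm : (⟨g, hmemY.2 hg⟩ : Y) ∈ (P : Subgroup Y) := htop ▸ Subgroup.mem_top _
    exact Subgroup.le_normalizer (hfromP hgm)

/-- An element commuting with `zw` and with an element of `J` outside `⟨zw⟩` normalizes `J`. -/
theorem cent_line {g j : G} (hj : j ∈ d.J) (hjx : j ∉ Subgroup.zpowers (d.z * d.w))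
    (hgx : g * (d.z * d.w) = d.z * d.w * g) (hgj : g * j = j * g) :
    g ∈ Subgroup.normalizer (d.J : Set G) := by
  obtain ⟨u, rfl⟩ := d.exists_κ hj
  rw [← d.κ_xc] at hgx hjx
  have hu : ¬ inLine xc u := by
    rintro (rfl | rfl | rfl)
    · exact hjx (d.κ_zero ▸ one_mem _)
    · exact hjx (Subgroup.mem_zpowers _)
    · exact hjx (d.κ_neg xc ▸ inv_mem (Subgroup.mem_zpowers _))
  rcases line_cases u hu with ⟨m, n, hs⟩ | ⟨p, -, q, -, hp, hq, hpq, hpx, hqx, hpj, hqj⟩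
  · refine d.norm_of_sing ((d.sg_κ _).2 hs) (d.κ_mem_J xc) ?_ ?_ hgx
    · intro h
      rcases three_cases (d.J_exp _ (d.κ_mem_J _)) h with e | e | e
      · exact d.zw_ne_one (by rw [← d.κ_xc, e])
      · exact d.not_sg_zw (by rw [← d.κ_xc, e]; exact (d.sg_κ _).2 hs)
      · exact d.not_sg_zw (by rw [← d.κ_xc, e]; exact d.sg_inv ((d.sg_κ _).2 hs))
    · rw [d.κ_add, d.κ_nsmul, d.κ_nsmul]
      exact (((show Commute g _ from hgx).pow_right _).mul_right ((show Commute g _ from hgj).pow_right _)).eq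
  · obtain ⟨k, hk, hkz, hkw⟩ := d.exists_map ((d.sg_κ p).2 hp) ((d.sg_κ q).2 hq) (by
      intro h
      refine hpq ?_
      rcases three_cases (d.J_exp _ (d.κ_mem_J p)) h with e | e | e
      · exact absurd e (d.sg_ne_one ((d.sg_κ q).2 hq))
      · exact Or.inr (Or.inl (d.κ_inj e))
      · exact Or.inr (Or.inr (d.κ_inj (e.trans (d.κ_neg p).symm))))
    have hki := Subgroup.inv_mem _ hk
    have hin : ∀ v : V4, critc p v → critc q v → k⁻¹ * d.κ v * k ∈ d.E := by
      intro v h1 h2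
      refine d.mem_E_of_crit ((Subgroup.mem_normalizer_iff''.1 hk _).1 (d.κ_mem_J v)) ?_ ?_
      · have := d.crit_conj hki (d.κ_mem_J p) (d.κ_mem_J v) ((d.crit_κ p v).2 h1)
        rwa [inv_inv, show k⁻¹ * d.κ p * k = d.z by rw [← hkz]; group] at this
      · have := d.crit_conj hki (d.κ_mem_J q) (d.κ_mem_J v) ((d.crit_κ q v).2 h2)
        rwa [inv_inv, show k⁻¹ * d.κ q * k = d.w by rw [← hkw]; group] at this
    set a := k⁻¹ * d.κ xc * k with ha
    set b := k⁻¹ * d.κ u * k with hb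
    have haE : a ∈ d.E := hin xc hpx hqx
    have hbE : b ∈ d.E := hin u hpj hqj
    set D := Subgroup.closure {a, b} with hD
    have hDE : D ≤ d.E := by
      rw [hD, Subgroup.closure_le]
      rintro v (rfl | rfl)
      exacts [haE, hbE]
    have hDeq : D = d.E := by
      obtain ⟨i, hi2, hi⟩ := card_three_dvd_pow Nat.prime_three
        (show Nat.card d.E = 3 ^ 2 by rw [d.card_E]; rfl) hDE
      refine Subgroup.eq_of_le_of_card_ge hDE ?_
      rw [d.card_E]
      by_contra hlt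
      have hi1 : i ≤ 1 := by
        by_contra h
        exact hlt (by rw [hi]; exact (show 9 = 3 ^ 2 from rfl).le.trans (Nat.pow_le_pow_right (by norm_num) (by omega)))
      have ha1 : a ≠ 1 := fun e => d.zw_ne_one (by
        rw [← d.κ_xc]
        calc d.κ xc = k * a * k⁻¹ := by rw [ha]; group
          _ = 1 := by rw [e, mul_one, mul_inv_cancel])
      have hza : Subgroup.zpowers a ≤ D := Subgroup.zpowers_le.2 (Subgroup.subset_closure (by simp))
      have heq := Subgroup.eq_of_le_of_card_ge hza (by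
        rw [hi, Nat.card_zpowers, orderOf_eq_prime (hp := ⟨Nat.prime_three⟩) (d.J_exp a (d.E_le_J haE)) ha1]
        exact (Nat.pow_le_pow_right (by norm_num) hi1).trans (by norm_num))
      have hbz : b ∈ Subgroup.zpowers a := heq ▸ Subgroup.subset_closure (by simp)
      obtain ⟨l, hl⟩ := Subgroup.mem_zpowers_iff.1 hbz
      refine hjx (Subgroup.mem_zpowers_iff.2 ⟨l, ?_⟩)
      calc d.κ xc ^ l = (k * a * k⁻¹) ^ l := by rw [ha]; group
        _ = k * b * k⁻¹ := by rw [conj_zpow, hl]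
        _ = d.κ u := by rw [hb]; group
    have hcom : ∀ e ∈ d.E, k⁻¹ * g * k * e = e * (k⁻¹ * g * k) := by
      intro e he
      rw [← hDeq] at he
      have hle : D ≤ Subgroup.centralizer ({k⁻¹ * g * k} : Set G) := by
        rw [hD, Subgroup.closure_le]
        have hc : ∀ v : G, g * v = v * g → k⁻¹ * v * k * (k⁻¹ * g * k) = k⁻¹ * g * k * (k⁻¹ * v * k) := fun v hv => by
          calc k⁻¹ * v * k * (k⁻¹ * g * k) = k⁻¹ * (v * g) * k := by group
            _ = k⁻¹ * (g * v) * k := by rw [hv]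
            _ = _ := by group
        rintro v (rfl | rfl)
        exacts [mem_centralizer_one.2 (hc _ hgx), mem_centralizer_one.2 (hc _ hgj)]
      exact (mem_centralizer_one.1 (hle he)).symm
    have := Subgroup.mul_mem _ (Subgroup.mul_mem _ hk (d.cent_E_le hcom)) hki
    rwa [show k * (k⁻¹ * g * k) * k⁻¹ = g by group] at this

/-- Conjugation within `C(zw)` between elements of `J` outside `⟨zw⟩` is induced by `N(J)`. -/
theorem norm_of_fused {g j : G} (hgx : g * (d.z * d.w) = d.z * d.w * g) (hj : j ∈ d.J)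
    (hjx : j ∉ Subgroup.zpowers (d.z * d.w)) (hg : g * j * g⁻¹ ∈ d.J) :
    g ∈ Subgroup.normalizer (d.J : Set G) := by
  have hj'x : g * j * g⁻¹ ∉ Subgroup.zpowers (d.z * d.w) := fun h => hjx (by
    obtain ⟨i, hi⟩ := Subgroup.mem_zpowers_iff.1 h
    refine Subgroup.mem_zpowers_iff.2 ⟨i, ?_⟩
    calc (d.z * d.w) ^ i = g⁻¹ * (g * (d.z * d.w) ^ i * g⁻¹) * g := by group
      _ = g⁻¹ * (g * j * g⁻¹) * g := by rw [← conj_zpow, conj_eq_of_commute hgx, hi]
      _ = j := by group)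
  have hconj : ∀ u ∈ d.J, g * u * g⁻¹ ∈ Subgroup.normalizer (d.J : Set G) := fun u hu =>
    d.cent_line hg hj'x
      (commute_of_conj_eq (by
        calc g * u * g⁻¹ * (d.z * d.w) * (g * u * g⁻¹)⁻¹
            = g * (u * (g⁻¹ * (d.z * d.w) * g) * u⁻¹) * g⁻¹ := by group
          _ = d.z * d.w := by
              rw [show g⁻¹ * (d.z * d.w) * g = d.z * d.w by rw [mul_assoc, ← hgx, inv_mul_cancel_left],
                conj_eq_of_commute (d.J_comm u hu _ (d.J.mul_mem d.z_mem_J d.w_mem_J)), conj_eq_of_commute hgx]))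
      (by rw [conj_mul, conj_mul, d.J_comm u hu j hj])
  set J' := d.J.map (MulAut.conj g).toMonoidHom
  have hJ' : IsPGroup 3 J' := (IsPGroup.of_card (n := 4) (by rw [d.J_card]; rfl) : IsPGroup 3 d.J).map _
  have hle : J' ≤ Subgroup.normalizer (d.J : Set G) := by
    rintro _ ⟨u, hu, rfl⟩; exact hconj u hu
  obtain ⟨y, hy, hyS⟩ := d.exists_conj_into_S
    ((IsPGroup.of_card (n := 4) (by rw [d.J_card]; rfl) : IsPGroup 3 d.J).to_sup_of_normal_left' hJ' hle)
    le_sup_left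
  have hyg : y * g ∈ Subgroup.normalizer (d.J : Set G) := d.weak_closure fun u hu => by
    have := hyS _ ((le_sup_right : J' ≤ _) ⟨u, hu, rfl⟩)
    rwa [show y * g * u * (y * g)⁻¹ = y * (g * u * g⁻¹) * y⁻¹ by group]
  have := Subgroup.mul_mem _ (Subgroup.inv_mem _ hy) hyg
  rwa [inv_mul_cancel_left] at this

end Pair

end Cfsg.Agent.McLThree
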