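/-
The action of `C(zw) ∩ N(J)` on the axes orthogonal to `zw`.
-/
import Cfsg.Agent.Lib.McLThree.Weak.Elliptic
import Cfsg.Agent.Lib.McLThree.Weak.MonFacts

set_option autoImplicit false
set_option maxRecDepth 100000
set_option linter.style.longLine false
set_option linter.style.haveILetI false

namespace Cfsg.Agent.McLThree

open Weak
open Cfsg.Agent.ThreeCubedSymFour (V3 Mon actV)

namespace Pair

variable {G : Type*} [Group G] [Finite G] (d : Pair G)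

/-- The centralizer of `z w`. -/
def Cx : Subgroup G := Subgroup.centralizer ({d.z * d.w} : Set G)

/-- The stabilizer of `z w` in `N(J)`. -/
def Wx : Subgroup G := Subgroup.normalizer (d.J : Set G) ⊓ d.Cx

theorem mem_Cx {y : G} : y ∈ d.Cx ↔ y * (d.z * d.w) = d.z * d.w * y := mem_centralizer_one

theorem Wx_le : d.Wx ≤ d.Cx := inf_le_right

theorem J_le_Wx : d.J ≤ d.Wx := fun j hj =>
  ⟨Subgroup.le_normalizer hj, d.mem_Cx.2 (d.J_comm j hj _ (d.J.mul_mem d.z_mem_J d.w_mem_J))⟩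

/-- The coordinates orthogonal to `z w`. -/
noncomputable def κ₃ (v : V3) : G := d.κ (k3 v)

theorem κ₃_mem_J (v : V3) : d.κ₃ v ∈ d.J := d.κ_mem_J _

theorem κ₃_add (u v : V3) : d.κ₃ (u + v) = d.κ₃ u * d.κ₃ v := by rw [κ₃, k3_add, d.κ_add]; rfl

theorem κ₃_neg (v : V3) : d.κ₃ (-v) = (d.κ₃ v)⁻¹ := by rw [κ₃, k3_neg, d.κ_neg]; rfl

theorem κ₃_zero : d.κ₃ 0 = 1 := by rw [κ₃, show k3 0 = 0 by decide +kernel, d.κ_zero]

theorem κ₃_nsmul (n : ℕ) (v : V3) : d.κ₃ (n • v) = d.κ₃ v ^ n := by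
  induction n with
  | zero => rw [zero_smul, pow_zero, d.κ₃_zero]
  | succ n ih => rw [succ_nsmul, d.κ₃_add, ih, pow_succ]

theorem κ₃_inj : Function.Injective d.κ₃ := fun _ _ h => k3_inj _ _ (d.κ_inj h)

theorem κ₃_notMem {v : V3} (hv : v ≠ 0) : d.κ₃ v ∉ Subgroup.zpowers (d.z * d.w) := by
  intro h
  rw [← d.κ_xc] at h
  refine hv (k3_notLine v ?_)
  rcases three_cases (d.J_exp _ (d.κ_mem_J xc)) h with e | e | e
  · exact Or.inl (d.κ_inj (e.trans d.κ_zero.symm))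
  · exact Or.inr (Or.inl (d.κ_inj e))
  · exact Or.inr (Or.inr (d.κ_inj (e.trans (d.κ_neg xc).symm)))

theorem exists_split {j : G} (hj : j ∈ d.J) : ∃ p ∈ Subgroup.zpowers (d.z * d.w), ∃ v, j = p * d.κ₃ v := by
  obtain ⟨v, rfl⟩ := d.exists_κ hj
  obtain ⟨a, u, rfl⟩ := split_xc v
  refine ⟨d.κ (a.val • xc), ?_, u, d.κ_add _ _⟩
  rw [d.κ_nsmul, d.κ_xc]
  exact Subgroup.pow_mem _ (Subgroup.mem_zpowers _) _

/-- An element of `Wx` centralizing the coordinates lies in `J`. -/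
theorem mem_J_of_fix {y : G} (hy : y ∈ d.Cx) (h : ∀ v, y * d.κ₃ v = d.κ₃ v * y) : y ∈ d.J := by
  refine d.mem_J_of_commute_J fun j hj => ?_
  obtain ⟨p, hp, v, rfl⟩ := d.exists_split hj
  obtain ⟨i, rfl⟩ := Subgroup.mem_zpowers_iff.1 hp
  exact (((show Commute y _ from d.mem_Cx.1 hy).zpow_right i).mul_right (show Commute y _ from h v)).eq

/-- The action of an element by a signed permutation of the axes. -/
def Acts (y : G) (m : Mon) (ε : Bool) : Prop := ∀ v, y * d.κ₃ v * y⁻¹ = d.κ₃ (sact m ε v)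

theorem acts_mul {y y' : G} {m m' : Mon} {ε ε' : Bool} (h : d.Acts y m ε) (h' : d.Acts y' m' ε') :
    d.Acts (y * y') (m * m') (xor ε ε') := fun v => by
  rw [show y * y' * d.κ₃ v * (y * y')⁻¹ = y * (y' * d.κ₃ v * y'⁻¹) * y⁻¹ by group, h' v, h _, sact_mul]

theorem acts_unique {y : G} {m m' : Mon} {ε ε' : Bool} (h : d.Acts y m ε) (h' : d.Acts y m' ε') :
    m = m' ∧ ε = ε' :=
  sact_unique m m' ε ε' (d.κ₃_inj ((h _).symm.trans (h' _))) (d.κ₃_inj ((h _).symm.trans (h' _)))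
    (d.κ₃_inj ((h _).symm.trans (h' _)))

theorem acts_one : d.Acts 1 1 false := fun v => by
  rw [one_mul, inv_one, mul_one]
  simp [sact, sgnV, ThreeCubedSymFour.actV_one]

theorem exists_axis_image {y : G} (hy : y ∈ d.Wx) {p : V3} (hp : p ∈ units) :
    ∃ q ∈ units, y * d.κ₃ p * y⁻¹ = d.κ₃ q := by
  obtain ⟨hN, hC⟩ := hy
  obtain ⟨v, hv⟩ := d.exists_κ ((Subgroup.mem_normalizer_iff.1 hN _).1 (d.κ₃_mem_J p))
  have hfix : y * d.κ xc * y⁻¹ = d.κ xc := by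
    rw [d.κ_xc]; exact conj_eq_of_commute (d.mem_Cx.1 hC)
  have hfix' : y * d.κ (-xc) * y⁻¹ = d.κ (-xc) := by rw [d.κ_neg, ← conj_inv, hfix]
  obtain ⟨h1, h2⟩ := axis_iff.1 p hp
  have key : ∀ a, y * d.κ a * y⁻¹ = d.κ a → sgc (a + k3 p) → sgc (a + v) := by
    intro a ha h
    rw [← d.sg_κ] at h ⊢
    have := (d.sg_NJ hN (d.κ_mem_J _)).2 h
    rwa [d.κ_add, ← conj_mul, ha, ← show d.κ v = y * d.κ (k3 p) * y⁻¹ from hv, ← d.κ_add] at this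
  obtain ⟨q, hq, rfl⟩ := axis_iff.2 v (key _ hfix h1) (key _ hfix' h2)
  exact ⟨q, hq, hv.symm⟩

theorem exists_acts {y : G} (hy : y ∈ d.Wx) : ∃ m ε, d.Acts y m ε := by
  obtain ⟨p, hp, hp'⟩ := d.exists_axis_image hy (p := ax0) (by decide +kernel)
  obtain ⟨q, hq, hq'⟩ := d.exists_axis_image hy (p := ax1) (by decide +kernel)
  obtain ⟨r, hr, hr'⟩ := d.exists_axis_image hy (p := ax2) (by decide +kernel)
  have hne : ∀ a b a' b' : V3, y * d.κ₃ a * y⁻¹ = d.κ₃ a' → y * d.κ₃ b * y⁻¹ = d.κ₃ b' →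
      a ≠ b → a ≠ -b → a' ≠ b' ∧ a' ≠ -b' := by
    intro a b a' b' ha hb h1 h2
    refine ⟨fun e => h1 (d.κ₃_inj ?_), fun e => h2 (d.κ₃_inj ?_)⟩
    · rw [e, ← hb] at ha
      exact mul_left_cancel (mul_right_cancel ha)
    · rw [e, d.κ₃_neg, ← hb, conj_inv, ← d.κ₃_neg] at ha
      exact mul_left_cancel (mul_right_cancel ha)
  obtain ⟨a1, a2⟩ := hne _ _ _ _ hp' hq' (by decide +kernel) (by decide +kernel)
  obtain ⟨b1, b2⟩ := hne _ _ _ _ hp' hr' (by decide +kernel) (by decide +kernel)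
  obtain ⟨c1, c2⟩ := hne _ _ _ _ hq' hr' (by decide +kernel) (by decide +kernel)
  obtain ⟨m, ε, rfl, rfl, rfl⟩ := axes_rep p hp q hq r hr a1 a2 b1 b2 c1 c2
  refine ⟨m, ε, fun v => ?_⟩
  rw [sact_lin m ε v, d.κ₃_add, d.κ₃_add, d.κ₃_nsmul, d.κ₃_nsmul, d.κ₃_nsmul]
  conv_lhs => rw [vec_lin v, d.κ₃_add, d.κ₃_add, d.κ₃_nsmul, d.κ₃_nsmul, d.κ₃_nsmul]
  rw [← conj_mul, ← conj_mul, ← conj_pow, ← conj_pow, ← conj_pow, hp', hq', hr']

theorem κ₃_E (k l : ZMod 3) : d.κ₃ (0, k, l) = d.κ (0, 0, k, l) := by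
  rw [κ₃]; congr 1; simp [k3]

theorem conj_κ_E {y : G} (hy : y ∈ d.T2) (hM : d.mat y * d.scale = d.scale * d.mat y) (k l : ZMod 3) :
    y * d.κ₃ (0, k, l) * y⁻¹ = d.κ₃ (0, (d.mat y).mulVec ![k, l] 0, (d.mat y).mulVec ![k, l] 1) := by
  rw [d.κ₃_E, d.κ₃_E, d.κ_E, d.κ_E, d.mat_apply hy, Matrix.mulVec_mulVec, hM, ← Matrix.mulVec_mulVec]
  congr 2
  funext i; fin_cases i <;> rfl

theorem g_κ₃ (v : V3) : d.g * d.κ₃ v * d.g⁻¹ = d.κ₃ (-v.1, -v.2.2, v.2.1) := by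
  obtain ⟨a, k, l⟩ := v
  have h0 : d.g * d.κ₃ ax0 * d.g⁻¹ = d.κ₃ (-ax0) := by
    rw [d.κ₃_neg, κ₃, show k3 ax0 = zc + -wc by decide +kernel, d.κ_add, d.κ_neg, d.κ_zc, d.κ_wc,
      ← conj_mul, ← conj_inv, d.g_z_w.1, d.g_z_w.2, inv_inv, mul_inv_rev, inv_inv]
    exact d.J_comm _ (d.J.inv_mem d.z_mem_J) _ d.w_mem_J
  have hE := d.conj_κ_E d.g_mem_T2 (by rw [d.mat_g, d.scale_rot]) k l
  rw [d.mat_g] at hE
  have e := (by decide +kernel : ∀ a k l : ZMod 3, ((a, k, l) : V3) = a.val • ax0 + ((0, k, l) : V3)) a k l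
  have e' := (by decide +kernel : ∀ a k l : ZMod 3, ((-a, -l, k) : V3) =
    a.val • (-ax0) + ((0, rot.mulVec ![k, l] 0, rot.mulVec ![k, l] 1) : V3)) a k l
  show d.g * d.κ₃ (a, k, l) * d.g⁻¹ = d.κ₃ (-a, -l, k)
  rw [e, e', d.κ₃_add, d.κ₃_add, d.κ₃_nsmul, d.κ₃_nsmul, ← conj_mul, ← conj_pow, h0, hE]

theorem n_mem_Wx : d.n ∈ d.Wx := ⟨d.n_NJ, d.mem_Cx.2 (commute_of_conj_eq d.n_zw)⟩

theorem t_mem_Wx : d.t ∈ d.Wx :=
  ⟨d.t_NJ, d.mem_Cx.2 ((show Commute d.t d.z from d.t_z).mul_right d.t_w').eq⟩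

theorem n_pos {m : Mon} {ε : Bool} (h : d.Acts d.n m ε) : ε = false := by
  have h0 : d.n * d.κ₃ ax0 * d.n⁻¹ = d.κ₃ (-ax0) := by
    rw [d.κ₃_neg, κ₃, show k3 ax0 = zc + -wc by decide +kernel, d.κ_add, d.κ_neg, d.κ_zc, d.κ_wc,
      ← conj_mul, ← conj_inv, d.n_z, d.n_w, mul_inv_rev, inv_inv]
  obtain ⟨hfst, hrot⟩ := swap_det m ε (d.κ₃_inj ((h _).symm.trans h0))
  refine hrot fun k l => d.κ₃_inj ?_
  set L := sact m ε (0, k, l) with hL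
  have hπ : d.π₆ (d.n * d.g) = d.π₆ (d.g⁻¹ * d.n) := by
    rw [d.map₆ _ d.n_mem _ d.g_mem, d.map₆ _ (d.M₀.inv_mem d.g_mem) _ d.n_mem, d.π₆_inv d.g_mem, d.π_n, d.π_g]
    decide +kernel
  have hgi : d.g⁻¹ * d.κ₃ L * d.g = d.κ₃ (0, L.2.2, -L.2.1) := by
    have := d.g_κ₃ (0, L.2.2, -L.2.1)
    rw [show ((-(0 : ZMod 3)), -(-L.2.1), L.2.2) = L by
      rw [neg_zero, neg_neg, ← hfst k l]] at this
    rw [← this]; group
  calc d.κ₃ (sact m ε (0, -l, k)) = d.n * d.κ₃ (0, -l, k) * d.n⁻¹ := (h _).symm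
    _ = d.n * (d.g * d.κ₃ (0, k, l) * d.g⁻¹) * d.n⁻¹ := by rw [d.g_κ₃]; simp
    _ = d.n * d.g * d.κ₃ (0, k, l) * (d.n * d.g)⁻¹ := by group
    _ = d.g⁻¹ * d.n * d.κ₃ (0, k, l) * (d.g⁻¹ * d.n)⁻¹ :=
        d.act_eq (d.M₀.mul_mem d.n_mem d.g_mem) (d.M₀.mul_mem (d.M₀.inv_mem d.g_mem) d.n_mem) hπ
          (d.κ₃_mem_J _)
    _ = d.g⁻¹ * (d.n * d.κ₃ (0, k, l) * d.n⁻¹) * d.g := by group
    _ = _ := by rw [h _, ← hL, hgi]

theorem fix_pos {y : G} (hy : y ∈ d.Wx) {m : Mon} {ε : Bool} (h : d.Acts y m ε)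
    (h0 : sact m ε ax0 = ax0) : ε = false := by
  have hu : y * d.κ (k3 ax0) * y⁻¹ = d.κ (k3 ax0) := by
    have := h ax0; rwa [h0] at this
  have hx : y * d.κ xc * y⁻¹ = d.κ xc := by rw [d.κ_xc]; exact conj_eq_of_commute (d.mem_Cx.1 hy.2)
  have hz : y * d.z * y⁻¹ = d.z := by
    rw [← d.κ_zc, show zc = -xc + -k3 ax0 by decide +kernel, d.κ_add, d.κ_neg, d.κ_neg, ← conj_mul,
      ← conj_inv, ← conj_inv, hx, hu]
  have hw : y * d.w * y⁻¹ = d.w := by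
    rw [← d.κ_wc, show wc = -xc + k3 ax0 by decide +kernel, d.κ_add, d.κ_neg, ← conj_mul, ← conj_inv, hx, hu]
  have hT : y ∈ d.T2 := ⟨hy.1, Or.inl hz, Or.inl hw⟩
  have hM := d.mat_fix_P hT hz hw
  have hcomm : d.mat y * d.scale = d.scale * d.mat y := by
    simp only [List.mem_cons, List.not_mem_nil, or_false] at hM
    rcases hM with e | e | e | e <;> rw [e]
    · rw [one_mul, mul_one]
    · rw [neg_one_mul, mul_neg_one]
    · rw [d.scale_rot]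
    · rw [neg_mul, mul_neg, d.scale_rot]
  exact fix_det _ hM m ε h0 fun k l => d.κ₃_inj ((h _).symm.trans (d.conj_κ_E hT hcomm k l))

theorem fix_pos' {y : G} (hy : y ∈ d.Wx) {m : Mon} {ε : Bool} (h : d.Acts y m ε)
    (h0 : sact m ε ax0 = ax0 ∨ sact m ε ax0 = -ax0) : ε = false := by
  rcases h0 with h0 | h0
  · exact d.fix_pos hy h h0
  · obtain ⟨mn, εn, hn⟩ := d.exists_acts d.n_mem_Wx
    have hn0 := d.n_pos hn
    subst hn0
    have h' := d.acts_mul hn h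
    have := d.fix_pos (d.Wx.mul_mem d.n_mem_Wx hy) h' (by
      rw [← sact_mul, h0]
      refine d.κ₃_inj ?_
      rw [← hn (-ax0), d.κ₃_neg, ← conj_inv]
      rw [κ₃, show k3 ax0 = zc + -wc by decide +kernel, d.κ_add, d.κ_neg, d.κ_zc, d.κ_wc, ← conj_mul,
        ← conj_inv, d.n_z, d.n_w, mul_inv_rev, inv_inv])
    simpa using this

theorem exists_move {p : V3} (hp : p = ax1 ∨ p = ax2) : ∃ k ∈ d.Wx, k * d.κ₃ ax0 * k⁻¹ = d.κ₃ p := by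
  obtain ⟨h1, h2, h3⟩ : sgc (-(xc + k3 p)) ∧ sgc (-(xc + -k3 p)) ∧ ¬ inLine (-(xc + k3 p)) (-(xc + -k3 p)) := by
    rcases hp with rfl | rfl <;> decide +kernel
  obtain ⟨k, hk, hkz, hkw⟩ := d.exists_map ((d.sg_κ _).2 h1) ((d.sg_κ _).2 h2) (by
    intro h
    refine h3 ?_
    rcases three_cases (d.J_exp _ (d.κ_mem_J _)) h with e | e | e
    · exact absurd e (d.sg_ne_one ((d.sg_κ _).2 h2))
    · exact Or.inr (Or.inl (d.κ_inj e))
    · exact Or.inr (Or.inr (d.κ_inj (e.trans (d.κ_neg _).symm))))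
  refine ⟨k, ⟨hk, d.mem_Cx.2 (commute_of_conj_eq ?_)⟩, ?_⟩
  · rw [← conj_mul, hkz, hkw, ← d.κ_add,
      show -(xc + k3 p) + -(xc + -k3 p) = xc by rcases hp with rfl | rfl <;> decide +kernel, d.κ_xc]
  · rw [κ₃, show k3 ax0 = zc + -wc by decide +kernel, d.κ_add, d.κ_neg, d.κ_zc, d.κ_wc, ← conj_mul,
      ← conj_inv, hkz, hkw, ← d.κ_neg, ← d.κ_add]
    congr 1
    rcases hp with rfl | rfl <;> decide +kernel

/-- Elements of `Wx` act on the axes with determinant one. -/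
theorem acts_pos {y : G} (hy : y ∈ d.Wx) {m : Mon} {ε : Bool} (h : d.Acts y m ε) : ε = false := by
  have move : ∀ p, p = ax1 ∨ p = ax2 → (sact m ε p = p ∨ sact m ε p = -p) → ε = false := by
    intro p hp hfix
    obtain ⟨k, hk, hkp⟩ := d.exists_move hp
    obtain ⟨mk, εk, hmk⟩ := d.exists_acts hk
    obtain ⟨mi, εi, hmi⟩ := d.exists_acts (d.Wx.inv_mem hk)
    obtain ⟨-, hεk⟩ : mk * mi = 1 ∧ xor εk εi = false :=
      d.acts_unique (d.acts_mul hmk hmi) (by rw [mul_inv_cancel]; exact d.acts_one)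
    have h' := d.acts_mul (d.acts_mul hmi h) hmk
    have hconj : k⁻¹ * y * k * d.κ₃ ax0 * (k⁻¹ * y * k)⁻¹ = k⁻¹ * (y * d.κ₃ p * y⁻¹) * k := by
      rw [← hkp]; group
    have hback : k⁻¹ * d.κ₃ p * k = d.κ₃ ax0 := by rw [← hkp]; group
    rw [h' ax0, h p] at hconj
    have := d.fix_pos' (d.Wx.mul_mem (d.Wx.mul_mem (d.Wx.inv_mem hk) hy) hk) h' (by
      rcases hfix with e | e <;> rw [e] at hconj
      · exact Or.inl (d.κ₃_inj (hconj.trans hback))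
      · refine Or.inr (d.κ₃_inj (hconj.trans ?_))
        rw [d.κ₃_neg, d.κ₃_neg, ← hback]; group)
    cases εk <;> cases εi <;> cases ε <;> simp_all
  rcases axis_cases m ε with h0 | h1 | h2 | h3
  · exact d.fix_pos' hy h h0
  · exact move _ (Or.inl rfl) h1
  · exact move _ (Or.inr rfl) h2
  · have hε : xor (xor ε ε) ε = ε := by cases ε <;> rfl
    have h' := d.acts_mul (d.acts_mul h h) h
    rw [hε] at h'
    exact d.fix_pos' (d.Wx.mul_mem (d.Wx.mul_mem hy hy) hy) h' h3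

theorem exists_th {y : G} (hy : y ∈ d.Wx) : ∃ m, ∀ v, y * d.κ₃ v * y⁻¹ = d.κ₃ (actV m v) := by
  obtain ⟨m, ε, h⟩ := d.exists_acts hy
  obtain rfl := d.acts_pos hy h
  exact ⟨m, h⟩

open Classical in
/-- The monomial matrix of an element of `Wx`. -/
noncomputable def th (y : G) : Mon := if h : y ∈ d.Wx then (d.exists_th h).choose else 1

theorem th_spec {y : G} (hy : y ∈ d.Wx) (v : V3) : y * d.κ₃ v * y⁻¹ = d.κ₃ (actV (d.th y) v) := by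
  rw [th, dif_pos hy]; exact (d.exists_th hy).choose_spec v

theorem th_eq {y : G} (hy : y ∈ d.Wx) {m : Mon} (h : ∀ v, y * d.κ₃ v * y⁻¹ = d.κ₃ (actV m v)) :
    d.th y = m := (d.acts_unique (ε := false) (ε' := false) (fun v => d.th_spec hy v) h).1

theorem th_one : d.th 1 = 1 := d.th_eq d.Wx.one_mem fun v => by simp [ThreeCubedSymFour.actV_one]

theorem th_mul {y y' : G} (hy : y ∈ d.Wx) (hy' : y' ∈ d.Wx) : d.th (y * y') = d.th y * d.th y' :=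
  d.th_eq (d.Wx.mul_mem hy hy') fun v => by
    rw [show y * y' * d.κ₃ v * (y * y')⁻¹ = y * (y' * d.κ₃ v * y'⁻¹) * y⁻¹ by group, d.th_spec hy',
      d.th_spec hy, ThreeCubedSymFour.actV_mul]

theorem th_inv {y : G} (hy : y ∈ d.Wx) : d.th y⁻¹ = (d.th y)⁻¹ :=
  eq_inv_of_mul_eq_one_left (by rw [← d.th_mul (d.Wx.inv_mem hy) hy, inv_mul_cancel, d.th_one])

theorem th_pow {y : G} (hy : y ∈ d.Wx) : ∀ n : ℕ, d.th (y ^ n) = d.th y ^ n
  | 0 => by rw [pow_zero, pow_zero, d.th_one]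
  | n + 1 => by rw [pow_succ, pow_succ, d.th_mul (d.Wx.pow_mem hy n) hy, th_pow hy n]

theorem th_J {j : G} (hj : j ∈ d.J) : d.th j = 1 := d.th_eq (d.J_le_Wx hj) fun v => by
  rw [ThreeCubedSymFour.actV_one]; exact conj_eq_of_commute (d.J_comm j hj _ (d.κ₃_mem_J v))

theorem mem_J_of_th {y : G} (hy : y ∈ d.Wx) (h : d.th y = 1) : y ∈ d.J :=
  d.mem_J_of_fix hy.2 fun v => commute_of_conj_eq (by rw [d.th_spec hy, h, ThreeCubedSymFour.actV_one])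

theorem th_t : d.th d.t = mT := d.th_eq d.t_mem_Wx fun v => by
  obtain ⟨a, k, l⟩ := v
  rw [mT_act]
  have e : ∀ a k l : ZMod 3, ((a, k, l) : V3) = a.val • ax0 + ((0, k, l) : V3) := by decide +kernel
  have h0 : d.t * d.κ₃ ax0 * d.t⁻¹ = d.κ₃ ax0 := by
    rw [κ₃, show k3 ax0 = zc + -wc by decide +kernel, d.κ_add, d.κ_neg, d.κ_zc, d.κ_wc, ← conj_mul,
      ← conj_inv, conj_eq_of_commute d.t_z, conj_eq_of_commute d.t_w']
  have hE : d.t * d.κ₃ (0, k, l) * d.t⁻¹ = d.κ₃ (0, -k, -l) := by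
    rw [show ((0, -k, -l) : V3) = -((0, k, l) : V3) by simp, d.κ₃_neg]
    refine d.t_conj_E ?_
    rw [d.κ₃_E]; exact d.mem_E_iff_κ.2 ⟨rfl, rfl⟩
  show d.t * d.κ₃ (a, k, l) * d.t⁻¹ = d.κ₃ (a, -k, -l)
  rw [e a k l, e a (-k) (-l), d.κ₃_add, d.κ₃_add, d.κ₃_nsmul, ← conj_mul, ← conj_pow, h0, hE]

theorem exists_four : ∃ b ∈ d.Wx, d.th b = mB := by
  obtain ⟨k, hk, hk0⟩ := d.exists_move (Or.inl rfl)
  refine ⟨k * d.t * k⁻¹, d.Wx.mul_mem (d.Wx.mul_mem hk d.t_mem_Wx) (d.Wx.inv_mem hk), ?_⟩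
  rw [d.th_mul (d.Wx.mul_mem hk d.t_mem_Wx) (d.Wx.inv_mem hk), d.th_mul hk d.t_mem_Wx, d.th_inv hk, d.th_t]
  exact four_conj _ (d.κ₃_inj ((d.th_spec hk _).symm.trans hk0))

theorem exists_four_list {v : Mon} (hv : v ∈ ([1, mT, mB, mT * mB] : List Mon)) : ∃ y ∈ d.Wx, d.th y = v := by
  obtain ⟨b, hb, hbm⟩ := d.exists_four
  simp only [List.mem_cons, List.not_mem_nil, or_false] at hv
  rcases hv with rfl | rfl | rfl | rfl
  · exact ⟨1, d.Wx.one_mem, d.th_one⟩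
  · exact ⟨d.t, d.t_mem_Wx, d.th_t⟩
  · exact ⟨b, hb, hbm⟩
  · exact ⟨d.t * b, d.Wx.mul_mem d.t_mem_Wx hb, by rw [d.th_mul d.t_mem_Wx hb, d.th_t, hbm]⟩

theorem exists_rot : ∃ y ∈ d.Wx, d.th y = mR := by
  obtain ⟨k, hk, hk0⟩ := d.exists_move (Or.inl rfl)
  obtain ⟨k', hk', hk0'⟩ := d.exists_move (Or.inr rfl)
  obtain ⟨m, hm, hr, hw⟩ := rot_word _ _ (d.κ₃_inj ((d.th_spec hk _).symm.trans hk0))
    (d.κ₃_inj ((d.th_spec hk' _).symm.trans hk0'))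
  obtain ⟨y, hy, hym⟩ : ∃ y ∈ d.Wx, d.th y = m := by
    simp only [List.mem_cons, List.not_mem_nil, or_false] at hm
    rcases hm with rfl | rfl | rfl | rfl
    · exact ⟨k, hk, rfl⟩
    · exact ⟨k' * k', d.Wx.mul_mem hk' hk', d.th_mul hk' hk'⟩
    · exact ⟨k * k', d.Wx.mul_mem hk hk', d.th_mul hk hk'⟩
    · exact ⟨k' * k, d.Wx.mul_mem hk' hk, d.th_mul hk' hk⟩
  obtain ⟨v, hv, hvm⟩ := rot_adjust m hr hw
  obtain ⟨e, he, hev⟩ := d.exists_four_list hv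
  exact ⟨e * y, d.Wx.mul_mem he hy, by rw [d.th_mul he hy, hev, hym, hvm]⟩

/-- Every rotation is induced by `Wx`. -/
theorem exists_even {m : Mon} (hm : m.w = false) : ∃ y ∈ d.Wx, d.th y = m := by
  obtain ⟨v, hv, i, rfl⟩ := even_word m hm
  obtain ⟨e, he, hev⟩ := d.exists_four_list hv
  obtain ⟨y, hy, hym⟩ := d.exists_rot
  exact ⟨e * y ^ (i : ℕ), d.Wx.mul_mem he (d.Wx.pow_mem hy _),
    by rw [d.th_mul he (d.Wx.pow_mem hy _), d.th_pow hy, hev, hym]⟩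

theorem exists_th_eq {a : G} (ha : a ∈ d.Wx) (haw : (d.th a).w = true) (m : Mon) :
    ∃ y ∈ d.Wx, d.th y = m := by
  cases hm : m.w
  · exact d.exists_even hm
  · obtain ⟨y, hy, hym⟩ := d.exists_even (odd_split _ m haw hm)
    exact ⟨y * a, d.Wx.mul_mem hy ha, by rw [d.th_mul hy ha, hym, inv_mul_cancel_right]⟩

end Pair

end Cfsg.Agent.McLThree
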