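/-
A normal subgroup of `C(zw)` meeting `N(J)` in `J` by a four-group forces `C(zw) ≤ N(J)`.
-/
import Cfsg.Agent.Lib.McLThree.Weak.Action
import Cfsg.Agent.Lib.ThreeCubedSymFour.Facts
import Cfsg.Agent.S3701

set_option autoImplicit false
set_option maxRecDepth 100000
set_option linter.style.longLine false
set_option linter.style.haveILetI false

open Cfsg

namespace Cfsg.Agent.McLThree

open Weak
open Cfsg.Agent.ThreeCubedSymFour (V3 Mon actV Q smallSub)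

theorem small_split : ∀ m : Mon, m * m * m = 1 → m.r = 0 → m.w = false → m = 1 := by decide +kernel

namespace Pair

variable {G : Type*} [Group G] [Finite G] (d : Pair G)

theorem xz_mem_J : d.z * d.w ∈ d.J := d.J.mul_mem d.z_mem_J d.w_mem_J

theorem xz_mem_Cx : d.z * d.w ∈ d.Cx := d.mem_Cx.2 rfl

/-- The subgroup `⟨z w⟩` of `C(z w)`. -/
def Kx : Subgroup d.Cx := Subgroup.zpowers ⟨d.z * d.w, d.xz_mem_Cx⟩

instance Kx_normal : d.Kx.Normal := ⟨fun n hn g => by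
  obtain ⟨i, rfl⟩ := Subgroup.mem_zpowers_iff.1 hn
  have hc : g * ⟨d.z * d.w, d.xz_mem_Cx⟩ = ⟨d.z * d.w, d.xz_mem_Cx⟩ * g := Subtype.ext (d.mem_Cx.1 g.2)
  rw [conj_eq_of_commute ((show Commute g _ from hc).zpow_right i).eq]
  exact hn⟩

theorem mem_Kx {y : d.Cx} : y ∈ d.Kx ↔ (y : G) ∈ Subgroup.zpowers (d.z * d.w) := by
  simp only [Kx, Subgroup.mem_zpowers_iff]
  exact exists_congr fun i => by rw [Subtype.ext_iff, SubgroupClass.coe_zpow]

theorem Kx_le_Wx {y : G} (h : y ∈ Subgroup.zpowers (d.z * d.w)) : y ∈ d.Wx :=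
  d.J_le_Wx ((Subgroup.zpowers_le.2 d.xz_mem_J) h)

/-- Elements of `C(z w)` fusing coordinates lie in `Wx`. -/
theorem mem_Wx_of_fused {g : G} (hg : g ∈ d.Cx) {v : V3} (hv : v ≠ 0) (h : g * d.κ₃ v * g⁻¹ ∈ d.J) :
    g ∈ d.Wx :=
  ⟨d.norm_of_fused (d.mem_Cx.1 hg) (d.κ₃_mem_J v) (d.κ₃_notMem hv) h, hg⟩

/-- A complement to `J` inside the preimage of the four-group. -/
theorem exists_four_sec : ∃ b ∈ d.Wx, b * b = 1 ∧ b * d.t = d.t * b ∧ d.th b = mB := by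
  obtain ⟨y, hy, hym⟩ := d.exists_four
  set j := d.t * y * d.t⁻¹ * y⁻¹ with hj
  have hcom : d.t * y * d.t⁻¹ ∈ d.Wx := d.Wx.mul_mem (d.Wx.mul_mem d.t_mem_Wx hy) (d.Wx.inv_mem d.t_mem_Wx)
  have hjJ : j ∈ d.J := d.mem_J_of_th (d.Wx.mul_mem hcom (d.Wx.inv_mem hy)) (by
    rw [hj, d.th_mul hcom (d.Wx.inv_mem hy), d.th_mul (d.Wx.mul_mem d.t_mem_Wx hy) (d.Wx.inv_mem d.t_mem_Wx),
      d.th_mul d.t_mem_Wx hy, d.th_inv hy, d.th_inv d.t_mem_Wx, d.th_t, hym]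
    decide +kernel)
  have hty : d.t * y * d.t⁻¹ = j * y := by rw [hj]; group
  have htj : d.t * j * d.t⁻¹ = j⁻¹ := by
    refine eq_inv_of_mul_eq_one_left (mul_right_cancel (b := y) ?_)
    rw [one_mul, mul_assoc, ← hty]
    calc d.t * j * d.t⁻¹ * (d.t * y * d.t⁻¹) = d.t * (j * y) * d.t⁻¹ := by group
      _ = d.t * d.t * y * (d.t * d.t)⁻¹ := by rw [← hty]; group
      _ = y := by rw [d.t_sq, one_mul, inv_one, mul_one]
  set y' := j * j * y with hy'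
  have hy'W : y' ∈ d.Wx := d.Wx.mul_mem (d.J_le_Wx (d.J.mul_mem hjJ hjJ)) hy
  have hth : d.th y' = mB := by
    rw [hy', d.th_mul (d.J_le_Wx (d.J.mul_mem hjJ hjJ)) hy, d.th_J (d.J.mul_mem hjJ hjJ), one_mul, hym]
  have hj3 : j * j * j = 1 := by rw [← inv_eq_sq (d.J_exp j hjJ), inv_mul_cancel]
  have hc : d.t * y' = y' * d.t := by
    refine commute_of_conj_eq ?_
    rw [hy', ← conj_mul, ← conj_mul, htj, hty, ← inv_eq_sq (d.J_exp j hjJ)]
    group
  have hsq : y' * y' ∈ d.J := d.mem_J_of_th (d.Wx.mul_mem hy'W hy'W) (by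
    rw [d.th_mul hy'W hy'W, hth]; decide +kernel)
  refine ⟨y' ^ 3, d.Wx.pow_mem hy'W 3, ?_, ((show Commute d.t y' from hc).pow_right 3).eq.symm, ?_⟩
  · rw [← pow_add, show 3 + 3 = 2 * 3 from rfl, pow_mul, pow_two, d.J_exp _ hsq]
  · rw [d.th_pow hy'W, hth]; decide +kernel

/-- The chosen second involution. -/
noncomputable def bx : G := d.exists_four_sec.choose

/-- The complement as a function. -/
noncomputable def sec (m : Mon) : G := cond m.s d.bx 1 * cond m.t d.t 1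

theorem sec_mem (m : Mon) : d.sec m ∈ d.Wx := by
  refine d.Wx.mul_mem ?_ ?_
  · cases m.s; exacts [d.Wx.one_mem, d.exists_four_sec.choose_spec.1]
  · cases m.t; exacts [d.Wx.one_mem, d.t_mem_Wx]

theorem th_sec {m : Mon} (hr : m.r = 0) (hw : m.w = false) : d.th (d.sec m) = m := by
  obtain ⟨h1, -, -, h4⟩ := d.exists_four_sec.choose_spec
  conv_rhs => rw [four_ext m hr hw]
  rw [sec]
  cases m.s <;> cases m.t <;> simp only [cond_true, cond_false]
  · simp [d.th_one]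
  · simp [d.th_t]
  · simp only [mul_one]; exact h4
  · show d.th (d.exists_four_sec.choose * d.t) = mB * mT
    rw [d.th_mul h1 d.t_mem_Wx, h4, d.th_t]

theorem sec_mul {a b : Mon} (ha : a.r = 0) (ha' : a.w = false) (hb : b.r = 0) (hb' : b.w = false) :
    d.sec (a * b) = d.sec a * d.sec b := by
  obtain ⟨-, h2, h3, -⟩ := d.exists_four_sec.choose_spec
  obtain ⟨-, -, hs, ht⟩ := four_mul a b ha ha' hb hb'
  change d.bx * d.bx = 1 at h2
  change d.bx * d.t = d.t * d.bx at h3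
  simp only [sec, hs, ht]
  have hb2 : ∀ v, d.bx * (d.bx * v) = v := fun v => by rw [← mul_assoc, h2, one_mul]
  have ht2 : ∀ v, d.t * (d.t * v) = v := fun v => by rw [← mul_assoc, d.t_sq, one_mul]
  have htb : ∀ v, d.t * (d.bx * v) = d.bx * (d.t * v) := fun v => by rw [← mul_assoc, ← h3, mul_assoc]
  cases a.s <;> cases a.t <;> cases b.s <;> cases b.t <;>
    simp [mul_assoc, h2, d.t_sq, hb2, ht2, htb, h3.symm]

/-- The small model inside `C(z w)`. -/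
noncomputable def smallLift (q : smallSub) : d.Cx :=
  ⟨d.κ₃ (q : Q).left.toAdd * d.sec (q : Q).right,
    d.Cx.mul_mem (d.Wx_le (d.J_le_Wx (d.κ₃_mem_J _))) (d.Wx_le (d.sec_mem _))⟩

/-- The small model inside `C(z w)/⟨z w⟩`. -/
noncomputable def small : smallSub →* d.Cx ⧸ d.Kx :=
  (QuotientGroup.mk' d.Kx).comp (MonoidHom.mk' d.smallLift (by
    rintro ⟨p, hp⟩ ⟨q, hq⟩
    refine Subtype.ext ?_
    show d.κ₃ (p * q).left.toAdd * d.sec (p * q).right =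
      d.κ₃ p.left.toAdd * d.sec p.right * (d.κ₃ q.left.toAdd * d.sec q.right)
    rw [SemidirectProduct.mul_left, SemidirectProduct.mul_right, toAdd_mul, d.κ₃_add,
      d.sec_mul hp.1 hp.2 hq.1 hq.2,
      show (ThreeCubedSymFour.actHom p.right q.left).toAdd = actV p.right q.left.toAdd from rfl]
    have := d.th_spec (d.sec_mem p.right) q.left.toAdd
    rw [d.th_sec hp.1 hp.2] at this
    rw [← this]
    group))

theorem small_inj : Function.Injective d.small := by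
  refine (injective_iff_map_eq_one _).2 fun ⟨q, hq⟩ h => ?_
  have hK : d.κ₃ q.left.toAdd * d.sec q.right ∈ Subgroup.zpowers (d.z * d.w) :=
    d.mem_Kx.1 ((QuotientGroup.eq_one_iff (d.smallLift ⟨q, hq⟩)).1 h)
  have hth := d.th_J ((Subgroup.zpowers_le.2 d.xz_mem_J) hK)
  rw [d.th_mul (d.J_le_Wx (d.κ₃_mem_J _)) (d.sec_mem _), d.th_J (d.κ₃_mem_J _), one_mul,
    d.th_sec hq.1 hq.2] at hth
  rw [hth, show d.sec 1 = 1 by simp [sec, show (1 : Mon).s = false from rfl, show (1 : Mon).t = false from rfl],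
    mul_one] at hK
  have hv : q.left.toAdd = 0 := by
    by_contra hv; exact d.κ₃_notMem hv hK
  exact Subtype.ext (SemidirectProduct.ext hv hth)

theorem mem_small_range {y : d.Cx} (hy : (y : G) ∈ d.Wx) (hr : (d.th y).r = 0) (hw : (d.th y).w = false) :
    QuotientGroup.mk' d.Kx y ∈ d.small.range := by
  have hs := d.sec_mem (d.th y)
  obtain ⟨p, hp, v, hv⟩ := d.exists_split (d.mem_J_of_th (d.Wx.mul_mem hy (d.Wx.inv_mem hs)) (by
    rw [d.th_mul hy (d.Wx.inv_mem hs), d.th_inv hs, d.th_sec hr hw, mul_inv_cancel]))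
  refine ⟨⟨⟨Multiplicative.ofAdd v, d.th y⟩, hr, hw⟩, ?_⟩
  refine (QuotientGroup.mk'_eq_mk' d.Kx).2 ⟨⟨p, d.Wx_le (d.Kx_le_Wx hp)⟩, d.mem_Kx.2 hp, Subtype.ext ?_⟩
  show d.κ₃ v * d.sec (d.th y) * p = y
  have hc : p * (d.κ₃ v * d.sec (d.th y)) = d.κ₃ v * d.sec (d.th y) * p := by
    obtain ⟨i, rfl⟩ := Subgroup.mem_zpowers_iff.1 hp
    exact (((show Commute _ _ from d.mem_Cx.1 (d.Cx.mul_mem (d.Wx_le (d.J_le_Wx (d.κ₃_mem_J v)))
      (d.Wx_le hs))).zpow_right i).symm).eq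
  rw [← hc, ← mul_assoc, ← hv, inv_mul_cancel_right]

theorem small_range_lift {y : d.Cx} (h : QuotientGroup.mk' d.Kx y ∈ d.small.range) :
    (y : G) ∈ d.Wx ∧ (d.th y).r = 0 ∧ (d.th y).w = false := by
  obtain ⟨⟨q, hq⟩, e⟩ := h
  obtain ⟨k, hk, rfl⟩ := (QuotientGroup.mk'_eq_mk' d.Kx).1
    (show QuotientGroup.mk' d.Kx (d.smallLift ⟨q, hq⟩) = QuotientGroup.mk' d.Kx y from e)
  have hk' := d.mem_Kx.1 hk
  have hκ := d.J_le_Wx (d.κ₃_mem_J q.left.toAdd)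
  refine ⟨d.Wx.mul_mem (d.Wx.mul_mem hκ (d.sec_mem _)) (d.Kx_le_Wx hk'), ?_⟩
  show (d.th (d.κ₃ q.left.toAdd * d.sec q.right * (k : G))).r = 0 ∧
    (d.th (d.κ₃ q.left.toAdd * d.sec q.right * (k : G))).w = false
  rw [d.th_mul (d.Wx.mul_mem hκ (d.sec_mem _)) (d.Kx_le_Wx hk'), d.th_mul hκ (d.sec_mem _),
    d.th_J (d.κ₃_mem_J _), d.th_J ((Subgroup.zpowers_le.2 d.xz_mem_J) hk'), one_mul, mul_one,
    d.th_sec hq.1 hq.2]
  exact hq

/-- A normal subgroup cutting `Wx` in `J` by a four-group makes `C(z w)` normalize `J`. -/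
theorem zw_of_normal (N : Subgroup d.Cx) [N.Normal]
    (hN : ∀ y : d.Cx, (y : G) ∈ d.Wx → (y ∈ N ↔ (d.th y).r = 0 ∧ (d.th y).w = false)) : d.ZW := by
  classical
  set Nb := N.map (QuotientGroup.mk' d.Kx) with hNb
  set A := d.small.range with hA
  have hAN : A ≤ Nb := by
    rintro _ ⟨q, rfl⟩
    obtain ⟨hW, hth⟩ := d.small_range_lift (y := d.smallLift q) ⟨q, rfl⟩
    exact ⟨d.smallLift q, (hN _ hW).2 hth, rfl⟩
  let tau : Multiplicative V3 →* d.Cx ⧸ d.Kx := (QuotientGroup.mk' d.Kx).comp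
    (MonoidHom.mk' (fun v => ⟨d.κ₃ v.toAdd, d.Wx_le (d.J_le_Wx (d.κ₃_mem_J _))⟩)
      (fun u v => Subtype.ext (d.κ₃_add _ _)))
  have htauA : tau.range ≤ A := by
    rintro _ ⟨v, rfl⟩
    refine d.mem_small_range (d.J_le_Wx (d.κ₃_mem_J _)) ?_ ?_ <;>
      simp only [MonoidHom.mk'_apply, d.th_J (d.κ₃_mem_J _)] <;> rfl
  have htauinj : Function.Injective tau := by
    refine (injective_iff_map_eq_one _).2 fun v h => ?_
    by_contra hv
    exact d.κ₃_notMem (v := v.toAdd) hv (d.mem_Kx.1 ((QuotientGroup.eq_one_iff _).1 h))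
  have hJ : ∀ (y : d.Cx) (v : Multiplicative V3), QuotientGroup.mk' d.Kx y = tau v → (y : G) ∈ d.J := by
    intro y v h
    obtain ⟨k, hk, rfl⟩ := (QuotientGroup.mk'_eq_mk' d.Kx).1 h.symm
    exact d.J.mul_mem (d.κ₃_mem_J _) ((Subgroup.zpowers_le.2 d.xz_mem_J) (d.mem_Kx.1 hk))
  have hin : ∀ g ∈ N, (g : G) ∈ d.Wx → QuotientGroup.mk' d.Kx g ∈ A := fun g hg hW =>
    d.mem_small_range hW ((hN g hW).1 hg).1 ((hN g hW).1 hg).2
  have htop : A.subgroupOf Nb = ⊤ := by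
    refine S3701.result (A.subgroupOf Nb)
      ⟨(Subgroup.subgroupOfEquivOfLe hAN).trans ((MonoidHom.ofInjective d.small_inj).symm.trans
        ((smallSub.equivMapOfInjective ThreeCubedSymFour.toPerm ThreeCubedSymFour.toPerm_injective).trans
          (MulEquiv.subgroupCongr ThreeCubedSymFour.map_toPerm_small)))⟩
      (tau.range.subgroupOf Nb) (Subgroup.comap_mono htauA) ?_ ?_ ?_
    · rw [Nat.card_congr (Subgroup.subgroupOfEquivOfLe (htauA.trans hAN)).toEquiv,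
        Nat.card_congr (MonoidHom.ofInjective htauinj).symm.toEquiv]
      simp [Nat.card_eq_fintype_card]
    · refine le_antisymm (fun n hn => Subgroup.mem_subgroupOf.2 ?_) fun n hn => ?_
      · obtain ⟨g, hg, hge⟩ := Subgroup.mem_map.1 n.2
        have h1 : tau (Multiplicative.ofAdd ax0) ∈ Nb := hAN (htauA ⟨_, rfl⟩)
        obtain ⟨v, hv⟩ := Subgroup.mem_subgroupOf.1
          ((Subgroup.mem_normalizer_iff.1 hn ⟨_, h1⟩).1 (Subgroup.mem_subgroupOf.2 ⟨_, rfl⟩))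
        simp only [Subgroup.coe_mul, InvMemClass.coe_inv, ← hge] at hv
        have hgJ := hJ (g * ⟨d.κ₃ ax0, d.Wx_le (d.J_le_Wx (d.κ₃_mem_J _))⟩ * g⁻¹) v (by
          rw [map_mul, map_mul, map_inv]; exact hv.symm)
        rw [← hge]
        exact hin g hg (d.mem_Wx_of_fused g.2 (by decide +kernel) hgJ)
      · obtain ⟨g, hg⟩ := QuotientGroup.mk'_surjective d.Kx (n : d.Cx ⧸ d.Kx)
        obtain ⟨hgW, -⟩ := d.small_range_lift (y := g) (hg ▸ Subgroup.mem_subgroupOf.1 hn)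
        refine Subgroup.mem_normalizer_fintype fun m hm => ?_
        obtain ⟨v, hv⟩ := Subgroup.mem_subgroupOf.1 hm
        refine Subgroup.mem_subgroupOf.2 ⟨Multiplicative.ofAdd (actV (d.th g) v.toAdd), ?_⟩
        simp only [Subgroup.coe_mul, InvMemClass.coe_inv, ← hv, ← hg]
        show QuotientGroup.mk' d.Kx _ = _ * QuotientGroup.mk' d.Kx _ * _
        rw [← map_inv, ← map_mul, ← map_mul]
        exact congrArg _ (Subtype.ext (d.th_spec hgW v.toAdd).symm)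
    · intro m hm hm1 c hc
      refine Subgroup.mem_subgroupOf.2 ?_
      obtain ⟨g, hg, hge⟩ := Subgroup.mem_map.1 c.2
      obtain ⟨v, hv⟩ := Subgroup.mem_subgroupOf.1 hm
      have hv0 : v ≠ 1 := fun h => hm1 (Subtype.ext (by rw [← hv, h, map_one]; rfl))
      have hcm := congrArg Subtype.val (Subgroup.mem_centralizer_singleton_iff.1 hc)
      simp only [Subgroup.coe_mul, ← hge, ← hv] at hcm
      have hgJ := hJ (g * ⟨d.κ₃ v.toAdd, d.Wx_le (d.J_le_Wx (d.κ₃_mem_J _))⟩ * g⁻¹) v (by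
        rw [map_mul, map_mul, map_inv]
        exact mul_inv_eq_iff_eq_mul.2 hcm)
      rw [← hge]
      exact hin g hg (d.mem_Wx_of_fused g.2 hv0 hgJ)
  intro g hg
  set e0 : d.Cx := ⟨d.κ₃ ax0, d.Wx_le (d.J_le_Wx (d.κ₃_mem_J _))⟩
  have he0 : e0 ∈ N := (hN _ (d.J_le_Wx (d.κ₃_mem_J _))).2 (by rw [d.th_J (d.κ₃_mem_J _)]; exact ⟨rfl, rfl⟩)
  set g' : d.Cx := ⟨g, d.mem_Cx.2 hg⟩
  have hn := (‹N.Normal›).conj_mem e0 he0 g'
  have hmem : QuotientGroup.mk' d.Kx (g' * e0 * g'⁻¹) ∈ A := by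
    have hmap : QuotientGroup.mk' d.Kx (g' * e0 * g'⁻¹) ∈ Nb := Subgroup.mem_map_of_mem _ hn
    have : (⟨_, hmap⟩ : Nb) ∈ A.subgroupOf Nb := htop ▸ Subgroup.mem_top _
    exact Subgroup.mem_subgroupOf.1 this
  obtain ⟨hW, hr, hw⟩ := d.small_range_lift hmem
  refine d.norm_of_fused hg (d.κ₃_mem_J ax0) (d.κ₃_notMem (by decide +kernel)) (d.mem_J_of_th hW ?_)
  refine small_split _ ?_ hr hw
  have h3 : (((g' * e0 * g'⁻¹ : d.Cx) : G)) ^ 3 = 1 := by
    show (g * d.κ₃ ax0 * g⁻¹) ^ 3 = 1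
    rw [conj_pow, d.J_exp _ (d.κ₃_mem_J _), mul_one, mul_inv_cancel]
  rw [← pow_two, ← pow_succ]
  exact (d.th_pow hW 3).symm.trans ((congrArg d.th h3).trans d.th_one)

end Pair

end Cfsg.Agent.McLThree
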