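/-
`C(zw) ≤ N(J)` when only rotations occur: a transfer to a group of order three.
-/
import Cfsg.Agent.Lib.McLThree.Weak.Finish
import Cfsg.Agent.Lib.McLThree.Weak.AltFacts

set_option autoImplicit false
set_option maxRecDepth 100000
set_option linter.style.longLine false
set_option linter.style.haveILetI false

open Cfsg

namespace Cfsg.Agent.McLThree

open Weak
open Cfsg.Agent.ThreeCubedSymFour (V3 Mon actV)

namespace Pair

variable {G : Type*} [Group G] [Finite G] (d : Pair G)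

/-- Only rotations occur. -/
def Even : Prop := ∀ y ∈ d.Wx, (d.th y).w = false

/-- An element inducing a rotation of the diagonal with cube in `⟨z w⟩`. -/
def Good (k : G) : Prop := k ∈ d.Wx ∧ d.th k ∈ rots ∧ k ^ 3 ∈ Subgroup.zpowers (d.z * d.w)

/-- The diagonal element. -/
noncomputable def sx : G := d.κ₃ diag

/-- The centralizer of `k` in `Wx`. -/
def DK (k : G) : Subgroup G := d.Wx ⊓ Subgroup.centralizer ({k} : Set G)

theorem sx_mem_Wx : d.sx ∈ d.Wx := d.J_le_Wx (d.κ₃_mem_J _)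

theorem k_sx {k : G} (hk : d.Good k) : k * d.sx = d.sx * k :=
  commute_of_conj_eq (by rw [sx, d.th_spec hk.1, (rots_diag _ hk.2.1).1])

theorem sx_mem_DK {k : G} (hk : d.Good k) : d.sx ∈ d.DK k :=
  ⟨d.sx_mem_Wx, mem_centralizer_one.2 (d.k_sx hk).symm⟩

theorem DK_form (he : d.Even) {k y : G} (hk : d.Good k) (hy : y ∈ d.DK k) :
    ∃ b : Fin 3, ∃ p ∈ Subgroup.zpowers (d.z * d.w), ∃ a : ZMod 3, y = k ^ (b : ℕ) * (p * d.sx ^ a.val) := by
  obtain ⟨hyW, hyk⟩ := hy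
  replace hyk := mem_centralizer_one.1 hyk
  obtain ⟨b, hb⟩ := rots_cent _ hk.2.1 _ (he y hyW)
    (by rw [← d.th_mul hyW hk.1, ← d.th_mul hk.1 hyW, hyk])
  have hkb := d.Wx.pow_mem hk.1 (b : ℕ)
  have hu : (k ^ (b : ℕ))⁻¹ * y ∈ d.J := d.mem_J_of_th (d.Wx.mul_mem (d.Wx.inv_mem hkb) hyW) (by
    rw [d.th_mul (d.Wx.inv_mem hkb) hyW, d.th_inv hkb, d.th_pow hk.1, ← hb, inv_mul_cancel])
  obtain ⟨p, hp, v, hv⟩ := d.exists_split hu
  have hpk : Commute k p := by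
    obtain ⟨i, rfl⟩ := Subgroup.mem_zpowers_iff.1 hp
    exact (show Commute k _ from d.mem_Cx.1 hk.1.2).zpow_right i
  have huk : Commute k (p * d.κ₃ v) := by
    rw [← hv]
    exact ((Commute.refl k).pow_right _).inv_right.mul_right hyk.symm
  have hvk : Commute k (d.κ₃ v) := by
    have := hpk.inv_right.mul_right huk
    rwa [inv_mul_cancel_left] at this
  obtain ⟨a, rfl⟩ := (rots_diag _ hk.2.1).2 v
    (d.κ₃_inj ((d.th_spec hk.1 v).symm.trans (conj_eq_of_commute hvk.eq)))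
  exact ⟨b, p, hp, a, by rw [sx, ← d.κ₃_nsmul, ← hv, mul_inv_cancel_left]⟩

theorem DK_pGroup (he : d.Even) {k : G} (hk : d.Good k) : IsPGroup 3 (d.DK k) := fun y => by
  refine ⟨2, Subtype.ext ?_⟩
  rw [SubmonoidClass.coe_pow, OneMemClass.coe_one, show 3 ^ 2 = 3 * 3 from rfl, pow_mul]
  refine d.J_exp _ (d.mem_J_of_th (d.Wx.pow_mem y.2.1 3) ?_)
  obtain ⟨b, hb⟩ := rots_cent _ hk.2.1 _ (he _ y.2.1)
    (by rw [← d.th_mul y.2.1 hk.1, ← d.th_mul hk.1 y.2.1, mem_centralizer_one.1 y.2.2])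
  rw [d.th_pow y.2.1, hb, ← pow_mul, mul_comm, pow_mul, (rots_r _ hk.2.1).2.2, one_pow]

/-- A three-subgroup of `N(J)` receiving a conjugate of `J` forces the conjugator into `N(J)`. -/
theorem norm_of_conj_le {R : Subgroup G} (hR : IsPGroup 3 R) (hRN : R ≤ Subgroup.normalizer (d.J : Set G))
    {g : G} (hg : ∀ j ∈ d.J, g * j * g⁻¹ ∈ R) : g ∈ Subgroup.normalizer (d.J : Set G) := by
  obtain ⟨y, hy, hyS⟩ := d.exists_conj_into_S
    ((IsPGroup.of_card (n := 4) (by rw [d.J_card]; rfl) : IsPGroup 3 d.J).to_sup_of_normal_left' hR hRN)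
    le_sup_left
  have hyg : y * g ∈ Subgroup.normalizer (d.J : Set G) := d.weak_closure fun u hu => by
    have := hyS _ ((le_sup_right : R ≤ _) (hg u hu))
    rwa [show y * g * u * (y * g)⁻¹ = y * (g * u * g⁻¹) * y⁻¹ by group]
  have := Subgroup.mul_mem _ (Subgroup.inv_mem _ hy) hyg
  rwa [inv_mul_cancel_left] at this

/-- `DK k` is a maximal three-subgroup of the centralizer of `k` in `C(z w)`. -/
theorem DK_max (he : d.Even) {k : G} (hk : d.Good k) {R : Subgroup G} (hR : IsPGroup 3 R)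
    (hRC : R ≤ d.Cx ⊓ Subgroup.centralizer ({k} : Set G)) (hDR : d.DK k ≤ R) : R ≤ d.DK k := by
  classical
  haveI := Fact.mk Nat.prime_three
  by_contra hne
  haveI : Group.IsNilpotent R := hR.isNilpotent
  have hlt : (d.DK k).subgroupOf R < ⊤ := lt_top_iff_ne_top.2 fun h => hne (Subgroup.subgroupOf_eq_top.1 h)
  obtain ⟨⟨b, hbR⟩, hbn, hbD⟩ := SetLike.exists_of_lt (normalizerCondition_of_isNilpotent (G := R) _ hlt)
  have hnorm : ∀ y ∈ d.DK k, b * y * b⁻¹ ∈ d.DK k := fun y hy =>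
    Subgroup.mem_subgroupOf.1 ((Subgroup.mem_normalizer_iff.1 hbn ⟨y, hDR hy⟩).1 (Subgroup.mem_subgroupOf.2 hy))
  obtain ⟨hbC, hbk⟩ := hRC hbR
  have hbW : b ∉ d.Wx := fun h => hbD (Subgroup.mem_subgroupOf.2 ⟨h, hbk⟩)
  replace hbk : Commute b k := mem_centralizer_one.1 hbk
  have hnj : ∀ g ∈ d.Cx, g * d.sx * g⁻¹ ∈ d.J → g ∈ d.Wx := fun g hg h =>
    d.mem_Wx_of_fused hg (v := diag) (by decide +kernel) h
  obtain ⟨e, p, hp, a, hs⟩ := d.DK_form he hk (hnorm _ (d.sx_mem_DK hk))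
  have hpJ : p ∈ d.J := (Subgroup.zpowers_le.2 d.xz_mem_J) hp
  have hsxJ : d.sx ∈ d.J := d.κ₃_mem_J _
  have hpc : ∀ y ∈ d.Cx, Commute y p := fun y hy => by
    obtain ⟨i, rfl⟩ := Subgroup.mem_zpowers_iff.1 hp
    exact (show Commute y _ from d.mem_Cx.1 hy).zpow_right i
  have he0 : (e : ℕ) ≠ 0 := fun h => hbW (hnj b hbC (by
    rw [hs, h, pow_zero, one_mul]; exact d.J.mul_mem hpJ (d.J.pow_mem hsxJ _)))
  have hk3J : (k ^ 3) ^ (e : ℕ) ∈ d.J := d.J.pow_mem ((Subgroup.zpowers_le.2 d.xz_mem_J) hk.2.2) _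
  have hks : Commute (k ^ (e : ℕ)) d.sx := (show Commute k d.sx from d.k_sx hk).pow_left _
  have hps : Commute p d.sx := d.J_comm _ hpJ _ hsxJ
  rcases zmod_cases a with rfl | rfl | rfl
  · rw [ZMod.val_zero, pow_zero, mul_one] at hs
    have h1 : b * (k ^ (e : ℕ) * p) * b⁻¹ = k ^ (e : ℕ) * p :=
      conj_eq_of_commute ((hbk.pow_right _).mul_right (hpc b hbC)).eq
    rw [← hs] at h1
    have h2 : b * d.sx * b⁻¹ = d.sx := mul_left_cancel (mul_right_cancel h1)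
    exact hbW (hnj b hbC (by rw [h2]; exact hsxJ))
  · rw [ZMod.val_one, pow_one] at hs
    obtain ⟨v, hv⟩ := rots_shift _ hk.2.1 (-e)
    set a' := d.κ₃ v
    have haC : a' ∈ d.Cx := d.Wx_le (d.J_le_Wx (d.κ₃_mem_J v))
    have hak : a' * k * a'⁻¹ = d.sx ^ ((-e : Fin 3) : ℕ) * k := by
      rw [sx, ← d.κ₃_nsmul, ← hv, d.κ₃_add, d.κ₃_neg, ← d.th_spec hk.1]
      show d.κ₃ v * k * (d.κ₃ v)⁻¹ = _
      group
    have has : a' * d.sx * a'⁻¹ = d.sx := conj_eq_of_commute (d.J_comm _ (d.κ₃_mem_J v) _ hsxJ)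
    have hap : a' * p * a'⁻¹ = p := conj_eq_of_commute (hpc _ haC).eq
    have hbp : b * p * b⁻¹ = p := conj_eq_of_commute (hpc _ hbC).eq
    have hbk' : ∀ n : ℕ, b * k ^ n * b⁻¹ = k ^ n := fun n => conj_eq_of_commute (hbk.pow_right n).eq
    set ε : ℕ := ((-e : Fin 3) : ℕ) with hε
    have hεe : ε * (e : ℕ) = 2 := by
      rw [hε]; fin_cases e
      · exact absurd rfl he0
      · rfl
      · rfl
    set f := b * a' * b with hf
    have hfC : f ∈ d.Cx := d.Cx.mul_mem (d.Cx.mul_mem hbC haC) hbC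
    have h1 : f * d.sx * f⁻¹ = k ^ (e : ℕ) * p := by
      have hsx3 : d.sx ^ 2 * d.sx = 1 := by rw [← pow_succ, d.J_exp _ hsxJ]
      have hke : a' * k ^ (e : ℕ) * a'⁻¹ = d.sx ^ 2 * k ^ (e : ℕ) := by
        rw [← conj_pow, hak, ((show Commute k d.sx from d.k_sx hk).symm.pow_left ε).mul_pow, ← pow_mul, hεe]
      calc f * d.sx * f⁻¹ = b * (a' * (b * d.sx * b⁻¹) * a'⁻¹) * b⁻¹ := by rw [hf]; group
        _ = b * (d.sx ^ 2 * k ^ (e : ℕ) * (p * d.sx)) * b⁻¹ := by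
            rw [hs, show a' * (k ^ (e : ℕ) * (p * d.sx)) * a'⁻¹ =
              a' * k ^ (e : ℕ) * a'⁻¹ * (a' * p * a'⁻¹ * (a' * d.sx * a'⁻¹)) by group, hke, hap, has]
        _ = b * (k ^ (e : ℕ) * p) * b⁻¹ := by
            rw [(hks.symm.pow_left 2).eq, mul_assoc (k ^ (e : ℕ)), ← mul_assoc (d.sx ^ 2),
              (hps.symm.pow_left 2).eq, mul_assoc p, hsx3, mul_one]
        _ = _ := by rw [← conj_mul, hbk', hbp]
    have h2 : f * k * f⁻¹ = (k ^ (e : ℕ) * (p * d.sx)) ^ ε * k := by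
      calc f * k * f⁻¹ = b * (a' * (b * k * b⁻¹) * a'⁻¹) * b⁻¹ := by rw [hf]; group
        _ = _ := by rw [conj_eq_of_commute hbk.eq, hak, ← conj_mul, ← conj_pow, hs,
              conj_eq_of_commute hbk.eq]
    have h3 : f * f * d.sx * (f * f)⁻¹ = (k ^ 3) ^ (e : ℕ) * d.sx ^ 2 := by
      have hp3 : p ^ 3 = 1 := d.J_exp _ hpJ
      have hck : Commute (k ^ (e : ℕ) * (p * d.sx)) k :=
        ((Commute.refl k).pow_left _).mul_left (((hpc k hk.1.2).symm).mul_left (show Commute d.sx k from (d.k_sx hk).symm))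
      calc f * f * d.sx * (f * f)⁻¹ = f * (f * d.sx * f⁻¹) * f⁻¹ := by group
        _ = (k ^ (e : ℕ) * (p * d.sx)) ^ 2 * k ^ (e : ℕ) * p := by
            rw [h1, ← conj_mul, ← conj_pow, h2, conj_eq_of_commute (hpc f hfC).eq, (hck.pow_left ε).mul_pow,
              ← pow_mul, hεe]
        _ = _ := by
            have hkp : Commute (k ^ (e : ℕ)) p := (hpc k hk.1.2).pow_left _
            rw [(hkp.mul_right hks).mul_pow, hps.mul_pow, ← pow_mul k 3, mul_comm 3 (e : ℕ), pow_mul k (e : ℕ) 3]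
            have hc1 : Commute (p ^ 2 * d.sx ^ 2) (k ^ (e : ℕ)) :=
              ((hkp.pow_right 2).mul_right (hks.pow_right 2)).symm
            rw [mul_assoc ((k ^ (e : ℕ)) ^ 2), hc1.eq, ← mul_assoc ((k ^ (e : ℕ)) ^ 2), ← pow_succ, mul_assoc,
              mul_assoc, (hps.symm.pow_left 2).eq, ← mul_assoc (p ^ 2), ← pow_succ, hp3, one_mul]
    have hW : f * f ∈ d.Wx := hnj _ (d.Cx.mul_mem hfC hfC) (h3 ▸ d.J.mul_mem hk3J (d.J.pow_mem hsxJ 2))
    refine diag_not_inverted _ (he _ hW) ?_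
    by_contra hd
    refine d.κ₃_notMem (v := actV (d.th (f * f)) diag + -((2 : ℕ) • diag))
      (fun h => hd (add_neg_eq_zero.1 h)) ?_
    rw [d.κ₃_add, d.κ₃_neg, d.κ₃_nsmul, ← d.th_spec hW]
    show f * f * d.sx * (f * f)⁻¹ * (d.sx ^ 2)⁻¹ ∈ _
    rw [h3, mul_inv_cancel_right]
    exact Subgroup.pow_mem _ hk.2.2 _
  · rw [show (2 : ZMod 3).val = 2 from rfl] at hs
    have h1 : b * b * d.sx * (b * b)⁻¹ = (k ^ 3) ^ (e : ℕ) * d.sx := by
      have hp3 : p ^ 3 = 1 := d.J_exp _ hpJ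
      have hkp : Commute (k ^ (e : ℕ)) p := (hpc k hk.1.2).pow_left _
      calc b * b * d.sx * (b * b)⁻¹ = b * (b * d.sx * b⁻¹) * b⁻¹ := by group
        _ = k ^ (e : ℕ) * (p * (k ^ (e : ℕ) * (p * d.sx ^ 2)) ^ 2) := by
            rw [hs, ← conj_mul, conj_eq_of_commute (hbk.pow_right _).eq, ← conj_mul,
              conj_eq_of_commute (hpc b hbC).eq, ← conj_pow, hs]
        _ = _ := by
            rw [(hkp.mul_right (hks.pow_right 2)).mul_pow, (hps.pow_right 2).mul_pow, ← mul_assoc p,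
              ((hkp.symm.pow_right 2)).eq, mul_assoc ((k ^ (e : ℕ)) ^ 2), ← mul_assoc (k ^ (e : ℕ)),
              ← pow_succ', ← mul_assoc p, ← pow_succ', hp3, one_mul, ← pow_mul d.sx,
              pow_eq_pow_mod (2 * 2) (d.J_exp _ hsxJ), ← pow_mul k 3, mul_comm 3 (e : ℕ),
              pow_mul k (e : ℕ) 3]
            simp
    have hW : b * b ∈ d.Wx := hnj _ (d.Cx.mul_mem hbC hbC) (h1 ▸ d.J.mul_mem hk3J hsxJ)
    obtain ⟨n, hn⟩ := hR ⟨b, hbR⟩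
    have hodd : Odd (3 ^ n) := Odd.pow (by decide)
    obtain ⟨m, hm⟩ := hodd
    refine hbW ?_
    have hb1 : b ^ (3 ^ n) = 1 := congrArg Subtype.val hn
    have : (b * b) ^ (m + 1) = b := by
      rw [← pow_two, ← pow_mul, show 2 * (m + 1) = 3 ^ n + 1 by omega, pow_succ, hb1, one_mul]
    rw [← this]
    exact d.Wx.pow_mem hW _

/-- Every three-subgroup of the centralizer of `k` in `C(z w)` can be conjugated into `DK k`. -/
theorem conj_into_DK (he : d.Even) {k : G} (hk : d.Good k) {R : Subgroup G} (hR : IsPGroup 3 R)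
    (hRC : R ≤ d.Cx ⊓ Subgroup.centralizer ({k} : Set G)) :
    ∃ c ∈ d.Cx, c * k = k * c ∧ ∀ y ∈ R, c * y * c⁻¹ ∈ d.DK k := by
  haveI := Fact.mk Nat.prime_three
  set M := d.Cx ⊓ Subgroup.centralizer ({k} : Set G)
  have hDM : d.DK k ≤ M := inf_le_inf_right _ d.Wx_le
  have hD' : IsPGroup 3 ((d.DK k).subgroupOf M) :=
    (d.DK_pGroup he hk).of_equiv (Subgroup.subgroupOfEquivOfLe hDM).symm
  obtain ⟨P, hP⟩ := hD'.exists_le_sylow
  have hPD : (P : Subgroup M).map M.subtype ≤ d.DK k :=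
    d.DK_max he hk (P.isPGroup'.map _) (Subgroup.map_subtype_le _)
      (fun y hy => ⟨⟨y, hDM hy⟩, hP (Subgroup.mem_subgroupOf.2 hy), rfl⟩)
  have hR' : IsPGroup 3 (R.subgroupOf M) := hR.of_equiv (Subgroup.subgroupOfEquivOfLe hRC).symm
  obtain ⟨P', hP'⟩ := hR'.exists_le_sylow
  obtain ⟨c, hc⟩ := MulAction.exists_smul_eq M P' P
  refine ⟨c, c.2.1, mem_centralizer_one.1 c.2.2, fun y hy => hPD ⟨c * ⟨y, hRC hy⟩ * c⁻¹, ?_, rfl⟩⟩
  rw [← hc]
  exact ⟨⟨y, hRC hy⟩, hP' (Subgroup.mem_subgroupOf.2 hy), rfl⟩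

theorem not_conj_J (he : d.Even) {k q g : G} (hk : d.Good k) (hg : g ∈ d.Cx) (hq : q ∈ d.J)
    (h : g * q * g⁻¹ = k) : False := by
  have hR : IsPGroup 3 (d.J.map (MulAut.conj g).toMonoidHom) :=
    (IsPGroup.of_card (n := 4) (by rw [d.J_card]; rfl) : IsPGroup 3 d.J).map _
  have hsub : d.J.map (MulAut.conj g).toMonoidHom ≤ d.Cx ⊓ Subgroup.centralizer ({k} : Set G) := by
    rintro _ ⟨j, hj, rfl⟩
    refine ⟨d.Cx.mul_mem (d.Cx.mul_mem hg (d.Wx_le (d.J_le_Wx hj))) (d.Cx.inv_mem hg),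
      mem_centralizer_one.2 ?_⟩
    show g * j * g⁻¹ * k = k * (g * j * g⁻¹)
    rw [← h, conj_mul, conj_mul, d.J_comm j hj q hq]
  obtain ⟨c, hc, hck, hcR⟩ := d.conj_into_DK he hk hR hsub
  have hin : ∀ j ∈ d.J, c * g * j * (c * g)⁻¹ ∈ d.DK k := fun j hj => by
    have := hcR _ ⟨j, hj, rfl⟩
    rwa [show c * g * j * (c * g)⁻¹ = c * (g * j * g⁻¹) * c⁻¹ by group]
  have hN := d.norm_of_conj_le (d.DK_pGroup he hk) (fun y hy => hy.1.1) hin
  have h' : k ∈ d.J := by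
    have h1 : c * g * q * (c * g)⁻¹ = k := by
      calc c * g * q * (c * g)⁻¹ = c * (g * q * g⁻¹) * c⁻¹ := by group
        _ = k := by rw [h, conj_eq_of_commute hck]
    rw [← h1]; exact (Subgroup.mem_normalizer_iff.1 hN q).1 hq
  exact (rots_r _ hk.2.1).1 (by rw [d.th_J h']; rfl)

theorem cube_conj {g q k : G} (hg : g ∈ d.Cx) (hk : d.Good k) (h : g * q * g⁻¹ = k) :
    q ^ 3 ∈ Subgroup.zpowers (d.z * d.w) := by
  obtain ⟨i, hi⟩ := Subgroup.mem_zpowers_iff.1 hk.2.2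
  have e : g * q ^ 3 * g⁻¹ = k ^ 3 := by rw [← conj_pow, h]
  have : q ^ 3 = k ^ 3 := by
    have hc : g⁻¹ * k ^ 3 * g = k ^ 3 := by
      rw [← hi, mul_assoc, ← ((show Commute g _ from d.mem_Cx.1 hg).zpow_right i).eq, inv_mul_cancel_left]
    rw [← hc, ← e]; group
  rw [this]; exact hk.2.2

/-- Fusion in `C(z w)` preserves the rotation of good elements. -/
theorem r_fusion (he : d.Even) {k q g : G} (hk : d.Good k) (hg : g ∈ d.Cx) (hq : q ∈ d.Wx)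
    (h : g * q * g⁻¹ = k) : (d.th q).r = (d.th k).r := by
  have hq3 := d.cube_conj hg hk h
  have hqth : d.th q ^ 3 = 1 := by rw [← d.th_pow hq, d.th_J ((Subgroup.zpowers_le.2 d.xz_mem_J) hq3)]
  have hr : (d.th q).r ≠ 0 := fun h0 =>
    d.not_conj_J he hk hg (d.mem_J_of_th hq (order_three_form _ hqth (he q hq) h0)) h
  obtain ⟨v, hv, hvq⟩ := conj_to_rots _ (he q hq) hr
  obtain ⟨y, hy, hyv⟩ := d.exists_four_list hv
  set q' := y * q * y⁻¹ with hq'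
  have hq'W : q' ∈ d.Wx := d.Wx.mul_mem (d.Wx.mul_mem hy hq) (d.Wx.inv_mem hy)
  have hq'th : d.th q' = v * d.th q * v⁻¹ := by
    rw [hq', d.th_mul (d.Wx.mul_mem hy hq) (d.Wx.inv_mem hy), d.th_mul hy hq, d.th_inv hy, hyv]
  have hgy : g * y⁻¹ ∈ d.Cx := d.Cx.mul_mem hg (d.Cx.inv_mem (d.Wx_le hy))
  have h' : g * y⁻¹ * q' * (g * y⁻¹)⁻¹ = k := by rw [← h, hq']; group
  have hgood : d.Good q' := ⟨hq'W, hq'th ▸ hvq, d.cube_conj hgy hk h'⟩
  have hr' : (d.th q).r = (d.th q').r := by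
    rw [hq'th, conj_r _ _ (hyv ▸ he y hy) (he q hq)]
  rw [hr']
  set g' := g * y⁻¹
  have hR : IsPGroup 3 ((d.DK q').map (MulAut.conj g').toMonoidHom) := (d.DK_pGroup he hgood).map _
  have hsub : (d.DK q').map (MulAut.conj g').toMonoidHom ≤ d.Cx ⊓ Subgroup.centralizer ({k} : Set G) := by
    rintro _ ⟨j, hj, rfl⟩
    refine ⟨d.Cx.mul_mem (d.Cx.mul_mem hgy (d.Wx_le hj.1)) (d.Cx.inv_mem hgy), mem_centralizer_one.2 ?_⟩
    show g' * j * g'⁻¹ * k = k * (g' * j * g'⁻¹)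
    rw [← h', conj_mul, conj_mul, mem_centralizer_one.1 hj.2]
  obtain ⟨c, hc, hck, hcR⟩ := d.conj_into_DK he hk hR hsub
  set f := c * g' with hf
  have hfC : f ∈ d.Cx := d.Cx.mul_mem hc hgy
  have hfq : f * q' * f⁻¹ = k := by
    calc f * q' * f⁻¹ = c * (g' * q' * g'⁻¹) * c⁻¹ := by rw [hf]; group
      _ = k := by rw [h', conj_eq_of_commute hck]
  have hfs : f * d.sx * f⁻¹ ∈ d.DK k := by
    have := hcR _ ⟨d.sx, d.sx_mem_DK hgood, rfl⟩
    rwa [show f * d.sx * f⁻¹ = c * (g' * d.sx * g'⁻¹) * c⁻¹ by rw [hf]; group]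
  obtain ⟨b, hb⟩ := rots_cent _ hk.2.1 _ (he _ hfs.1)
    (by rw [← d.th_mul hfs.1 hk.1, ← d.th_mul hk.1 hfs.1, mem_centralizer_one.1 hfs.2])
  by_cases hb0 : (b : ℕ) = 0
  · have hfW := d.mem_Wx_of_fused hfC (v := diag) (by decide +kernel)
      (d.mem_J_of_th hfs.1 (show d.th (f * d.sx * f⁻¹) = 1 by rw [hb, hb0, pow_zero]))
    rw [← hfq, d.th_mul (d.Wx.mul_mem hfW hq'W) (d.Wx.inv_mem hfW), d.th_mul hfW hq'W, d.th_inv hfW,
      conj_r _ _ (he f hfW) (he _ hq'W)]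
  · refine (d.not_conj_J he (k := f * d.sx * f⁻¹) ⟨hfs.1, hb ▸ rots_pow _ hk.2.1 b hb0, ?_⟩ hfC
      (d.κ₃_mem_J diag) rfl).elim
    rw [conj_pow, d.J_exp _ (show d.sx ∈ d.J from d.κ₃_mem_J diag), mul_one, mul_inv_cancel]
    exact one_mem _

theorem exists_good : ∃ k, d.Good k ∧ d.th k = mR := by
  obtain ⟨y, hy, hym⟩ := d.exists_rot
  have h3 : d.th (y ^ 3) = 1 := by rw [d.th_pow hy, hym]; decide +kernel
  obtain ⟨p, hp, v, hv⟩ := d.exists_split (d.mem_J_of_th (d.Wx.pow_mem hy 3) h3)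
  have hvfix : actV mR v = v := by
    refine d.κ₃_inj ?_
    rw [← hym, ← d.th_spec hy]
    refine conj_eq_of_commute ?_
    obtain ⟨i, rfl⟩ := Subgroup.mem_zpowers_iff.1 hp
    have := ((show Commute y _ from d.mem_Cx.1 hy.2).zpow_right i).inv_right.mul_right
      ((Commute.refl y).pow_right 3)
    rwa [hv, inv_mul_cancel_left] at this
  obtain ⟨c, rfl⟩ := (rots_diag mR (by simp [rots])).2 v hvfix
  set j := d.κ₃ ((-c, 0, 0) : V3) with hj
  have hjW := d.J_le_Wx (d.κ₃_mem_J ((-c, 0, 0) : V3))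
  have hth : d.th (j * y) = mR := by rw [d.th_mul hjW hy, d.th_J (d.κ₃_mem_J _), one_mul, hym]
  refine ⟨j * y, ⟨d.Wx.mul_mem hjW hy, by rw [hth]; simp [rots], ?_⟩, hth⟩
  have e1 : y * j * y⁻¹ = d.κ₃ (actV mR (-c, 0, 0)) := by rw [hj, d.th_spec hy, hym]
  have e2 : y * (y * j * y⁻¹) * y⁻¹ = d.κ₃ (actV mR (actV mR (-c, 0, 0))) := by rw [e1, d.th_spec hy, hym]
  have e3 : (j * y) ^ 3 = j * ((y * j * y⁻¹) * (y * (y * j * y⁻¹) * y⁻¹)) * y ^ 3 := by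
    simp only [pow_succ, pow_zero, one_mul]; group
  rw [e3, e2, e1, hv, ← d.κ₃_add, ← d.κ₃_add]
  set A := ((-c, 0, 0) : V3) + (actV mR (-c, 0, 0) + actV mR (actV mR (-c, 0, 0))) with hA
  have hpc : Commute p (d.κ₃ A) :=
    d.J_comm _ ((Subgroup.zpowers_le.2 d.xz_mem_J) hp) _ (d.κ₃_mem_J _)
  rw [← mul_assoc, hpc.symm.eq, mul_assoc, ← d.κ₃_add, hA, rots_norm c, d.κ₃_zero, mul_one]
  exact hp

open Classical in
/-- The case where only rotations occur. -/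
theorem zw_of_even (he : d.Even) : d.ZW := by
  haveI := Fact.mk Nat.prime_three
  set H := d.Wx.subgroupOf d.Cx with hH
  let ϕ : H →* Multiplicative (ZMod 3) :=
    MonoidHom.mk' (fun y => Multiplicative.ofAdd (d.th ((y : d.Cx) : G)).r) (fun a b => by
      show Multiplicative.ofAdd (d.th (((a : d.Cx) : G) * ((b : d.Cx) : G))).r = _
      rw [d.th_mul (Subgroup.mem_subgroupOf.1 a.2) (Subgroup.mem_subgroupOf.1 b.2),
        r_add _ _ (he _ (Subgroup.mem_subgroupOf.1 a.2)) (he _ (Subgroup.mem_subgroupOf.1 b.2)), ofAdd_add])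
  -- the index is prime to three
  have hidx : ¬ 3 ∣ H.index := by
    obtain ⟨P, hP⟩ := (((IsPGroup.of_card (n := 4) (by rw [d.J_card]; rfl) : IsPGroup 3 d.J).of_equiv
      (Subgroup.subgroupOfEquivOfLe (d.J_le_Wx.trans d.Wx_le)).symm)).exists_le_sylow
    have hPH : (P : Subgroup d.Cx) ≤ H := by
      by_contra hne
      haveI : Group.IsNilpotent P := P.isPGroup'.isNilpotent
      have hlt : H.subgroupOf (P : Subgroup d.Cx) < ⊤ :=
        lt_top_iff_ne_top.2 fun h => hne (Subgroup.subgroupOf_eq_top.1 h)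
      obtain ⟨⟨b, hbP⟩, hbn, hbH⟩ := SetLike.exists_of_lt (normalizerCondition_of_isNilpotent (G := P) _ hlt)
      refine hbH (Subgroup.mem_subgroupOf.2 (Subgroup.mem_subgroupOf.2 ⟨?_, b.2⟩))
      refine d.norm_of_conj_le (R := ((H ⊓ (P : Subgroup d.Cx)).map d.Cx.subtype))
        ((P.isPGroup'.to_le inf_le_right).map _) ?_ fun j hj => ?_
      · rintro _ ⟨y, hy, rfl⟩; exact (Subgroup.mem_subgroupOf.1 hy.1).1
      · have hjC : j ∈ d.Cx := d.Wx_le (d.J_le_Wx hj)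
        have hjP : (⟨j, hjC⟩ : d.Cx) ∈ (P : Subgroup d.Cx) := hP (Subgroup.mem_subgroupOf.2 hj)
        refine ⟨b * ⟨j, hjC⟩ * b⁻¹, ⟨?_, (P : Subgroup d.Cx).mul_mem ((P : Subgroup d.Cx).mul_mem hbP hjP) ((P : Subgroup d.Cx).inv_mem hbP)⟩, rfl⟩
        exact Subgroup.mem_subgroupOf.1 ((Subgroup.mem_normalizer_iff.1 hbn ⟨_, hjP⟩).1
          (Subgroup.mem_subgroupOf.2 (Subgroup.mem_subgroupOf.2 (d.J_le_Wx hj))))
    exact fun h => P.not_dvd_index (h.trans (Subgroup.index_dvd_of_le hPH))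
  haveI : H.FiniteIndex := inferInstance
  set τ := ϕ.transfer with hτ
  -- the value on good elements
  have hgoodval : ∀ k (hk : d.Good k), τ ⟨k, hk.1.2⟩ = Multiplicative.ofAdd ((d.th k).r) ^ H.index := by
    intro k hk
    letI := H.fintypeQuotientOfFiniteIndex
    rw [hτ, MonoidHom.transfer_eq_prod_quotient_orbitRel_zpowers_quot,
      Subgroup.index_eq_sum_minimalPeriod H (⟨k, hk.1.2⟩ : d.Cx), ← Finset.prod_pow_eq_pow_sum]
    refine Finset.prod_congr rfl fun q _ => ?_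
    set l := Function.minimalPeriod ((⟨k, hk.1.2⟩ : d.Cx) • ·) q.out
    set g0 : d.Cx := q.out.out
    have hmem : g0⁻¹ * (⟨k, hk.1.2⟩ : d.Cx) ^ l * g0 ∈ H :=
      QuotientGroup.out_conj_pow_minimalPeriod_mem H _ q.out
    replace hmem : (g0 : G)⁻¹ * k ^ l * g0 ∈ d.Wx := Subgroup.mem_subgroupOf.1 hmem
    show Multiplicative.ofAdd (d.th ((g0 : G)⁻¹ * k ^ l * g0)).r = Multiplicative.ofAdd (d.th k).r ^ l
    rw [← ofAdd_nsmul, nsmul_eq_mul]
    congr 1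
    obtain ⟨hr, hw, h3⟩ := rots_r _ hk.2.1
    have hl : (d.th k) ^ l = (d.th k) ^ (l % 3) := pow_eq_pow_mod l h3
    have hrl : ((d.th k) ^ (l % 3)).r = ((l % 3 : ℕ) : ZMod 3) * (d.th k).r :=
      rots_pow_r _ hk.2.1
        ⟨l % 3, Nat.mod_lt _ (by norm_num)⟩
    rw [ZMod.natCast_mod] at hrl
    rw [← hrl, ← hl, ← d.th_pow hk.1]
    by_cases h0 : l % 3 = 0
    · have hkl : k ^ l ∈ Subgroup.zpowers (d.z * d.w) := by
        rw [← Nat.div_add_mod l 3, h0, add_zero, pow_mul]; exact Subgroup.pow_mem _ hk.2.2 _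
      obtain ⟨i, hi⟩ := Subgroup.mem_zpowers_iff.1 hkl
      rw [← hi, mul_assoc, ← ((show Commute (g0 : G) _ from d.mem_Cx.1 g0.2).zpow_right i).eq,
        inv_mul_cancel_left]
    · refine d.r_fusion he ⟨d.Wx.pow_mem hk.1 l, ?_, ?_⟩ g0.2 hmem (by group)
      · rw [d.th_pow hk.1, hl]; exact rots_pow _ hk.2.1 ⟨l % 3, Nat.mod_lt _ (by norm_num)⟩ h0
      · rw [← pow_mul, mul_comm, pow_mul]; exact Subgroup.pow_mem _ hk.2.2 _
  have hinvol : ∀ y : d.Cx, y * y = 1 → τ y = 1 := fun y hy => by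
    have h2 : τ y * τ y = 1 := by rw [← map_mul, hy, map_one]
    exact mult_sq _ h2
  have hsec : ∀ m : Mon, m.r = 0 → m.w = false → τ ⟨d.sec m, d.Wx_le (d.sec_mem m)⟩ = 1 := by
    intro m hr hw
    refine hinvol _ (Subtype.ext ?_)
    show d.sec m * d.sec m = 1
    rw [← d.sec_mul hr hw hr hw, four_sq m hr hw]
    simp [sec, show (1 : Mon).s = false from rfl, show (1 : Mon).t = false from rfl]
  have hκ : ∀ v, τ ⟨d.κ₃ v, d.Wx_le (d.J_le_Wx (d.κ₃_mem_J v))⟩ = 1 := by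
    intro v
    obtain ⟨a, b, rfl⟩ := diff_span v
    have hcomm : ∀ (y : G) (hy : y ∈ d.Wx) (u : V3),
        τ ⟨d.κ₃ (actV (d.th y) u + -u), d.Wx_le (d.J_le_Wx (d.κ₃_mem_J _))⟩ = 1 := by
      intro y hy u
      have e : (⟨d.κ₃ (actV (d.th y) u + -u), d.Wx_le (d.J_le_Wx (d.κ₃_mem_J _))⟩ : d.Cx) =
          ⟨y, hy.2⟩ * ⟨d.κ₃ u, d.Wx_le (d.J_le_Wx (d.κ₃_mem_J u))⟩ * ⟨y, hy.2⟩⁻¹ *
            ⟨d.κ₃ u, d.Wx_le (d.J_le_Wx (d.κ₃_mem_J u))⟩⁻¹ := Subtype.ext (by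
        show d.κ₃ (actV (d.th y) u + -u) = y * d.κ₃ u * y⁻¹ * (d.κ₃ u)⁻¹
        rw [d.th_spec hy, d.κ₃_add, d.κ₃_neg])
      rw [e, map_mul, map_mul, map_mul, map_inv, map_inv]
      simp [mul_comm]
    obtain ⟨y, hy, hyb⟩ := d.exists_four
    have e1 := hcomm d.t d.t_mem_Wx a
    have e2 := hcomm y hy b
    simp only [d.th_t, hyb] at e1 e2
    rw [show (⟨d.κ₃ ((actV mT a + -a) + (actV mB b + -b)), d.Wx_le (d.J_le_Wx (d.κ₃_mem_J _))⟩ : d.Cx) =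
      ⟨d.κ₃ (actV mT a + -a), d.Wx_le (d.J_le_Wx (d.κ₃_mem_J _))⟩ *
        ⟨d.κ₃ (actV mB b + -b), d.Wx_le (d.J_le_Wx (d.κ₃_mem_J _))⟩ from Subtype.ext (d.κ₃_add _ _),
      map_mul, e1, e2, one_mul]
  have hx : τ ⟨d.z * d.w, d.xz_mem_Cx⟩ = 1 := by
    rw [hτ, MonoidHom.transfer_eq_pow]
    · show Multiplicative.ofAdd (d.th (((⟨d.z * d.w, d.xz_mem_Cx⟩ : d.Cx) ^ H.index : d.Cx) : G)).r = 1
      rw [SubmonoidClass.coe_pow, d.th_J (d.J.pow_mem d.xz_mem_J _)]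
      rfl
    · intro n g0 _
      refine Subtype.ext ?_
      show (g0 : G)⁻¹ * (d.z * d.w) ^ n * g0 = (d.z * d.w) ^ n
      rw [mul_assoc, ← ((show Commute (g0 : G) _ from d.mem_Cx.1 g0.2).pow_right n).eq, inv_mul_cancel_left]
  have hzero : ∀ y : d.Cx, (y : G) ∈ d.Wx → (d.th y).r = 0 → (d.th y).w = false → τ y = 1 := by
    intro y hy hr hw
    set m := d.th (y : G)
    have hs := d.sec_mem m
    obtain ⟨p, hp, v, hv⟩ := d.exists_split (d.mem_J_of_th (d.Wx.mul_mem hy (d.Wx.inv_mem hs)) (by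
      rw [d.th_mul hy (d.Wx.inv_mem hs), d.th_inv hs, d.th_sec hr hw, mul_inv_cancel]))
    obtain ⟨i, rfl⟩ := Subgroup.mem_zpowers_iff.1 hp
    have e : y = ⟨d.z * d.w, d.xz_mem_Cx⟩ ^ i * ⟨d.κ₃ v, d.Wx_le (d.J_le_Wx (d.κ₃_mem_J v))⟩ *
        ⟨d.sec m, d.Wx_le hs⟩ := Subtype.ext (by
      show (y : G) = (d.z * d.w) ^ i * d.κ₃ v * d.sec m
      rw [← hv, inv_mul_cancel_right])
    rw [e, map_mul, map_mul, map_zpow, hx, hκ, hsec m hr hw, one_zpow, one_mul, one_mul]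
  obtain ⟨k, hk, hkm⟩ := d.exists_good
  refine d.zw_of_normal τ.ker fun y hy => ?_
  have hw := he _ hy
  refine ⟨fun h => ⟨?_, hw⟩, fun h => hzero y hy h.1 h.2⟩
  obtain ⟨hr0, hw0⟩ := even_split _ hw
  set n := (d.th (y : G)).r.val
  have hkn : k ^ n ∈ d.Wx := d.Wx.pow_mem hk.1 n
  have hy0 : τ (y * (⟨k, hk.1.2⟩ ^ n)⁻¹) = 1 := by
    have e : d.th ((y : G) * (k ^ n)⁻¹) = d.th (y : G) * (mR ^ n)⁻¹ := by
      rw [d.th_mul hy (d.Wx.inv_mem hkn), d.th_inv hkn, d.th_pow hk.1, hkm]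
    refine hzero _ (d.Wx.mul_mem hy (d.Wx.inv_mem hkn)) ?_ ?_
    · show (d.th ((y : G) * (k ^ n)⁻¹)).r = 0
      rw [e]; exact hr0
    · show (d.th ((y : G) * (k ^ n)⁻¹)).w = false
      rw [e]; exact hw0
  rw [map_mul, map_inv, map_pow, MonoidHom.mem_ker.1 h, one_mul, inv_eq_one, hgoodval k hk, hkm, ← pow_mul,
    ← ofAdd_nsmul, nsmul_eq_mul, ofAdd_eq_one, show mR.r = 1 from rfl, mul_one, Nat.cast_mul,
    ZMod.natCast_zmod_val] at hy0
  exact (mul_eq_zero.1 hy0).resolve_left fun h0 => hidx ((ZMod.natCast_eq_zero_iff _ _).1 h0)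

end Pair

end Cfsg.Agent.McLThree
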