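/-
`C(zw) ≤ N(J)` when all signed permutations of determinant one occur.
-/
import Cfsg.Agent.Lib.McLThree.Weak.Finish
import Cfsg.Agent.Lib.ThreeCubedSymFour.Embedding

set_option autoImplicit false
set_option maxRecDepth 100000
set_option linter.style.longLine false
set_option linter.style.haveILetI false

open Cfsg

namespace Cfsg.Agent.McLThree

open Weak
open Cfsg.Agent.ThreeCubedSymFour (V3 Mon actV Q smallSub)

namespace Pair

variable {G : Type*} [Group G] [Finite G] (d : Pair G)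

theorem exists_inverter {a : G} (ha : a ∈ d.Wx) (haw : (d.th a).w = true) :
    ∃ o : G, o ∈ Subgroup.normalizer (d.J : Set G) ∧ o * o = 1 ∧ o * (d.z * d.w) * o⁻¹ = (d.z * d.w)⁻¹ ∧
      ∀ j ∈ d.J, o * j * o⁻¹ = j⁻¹ := by
  obtain ⟨m, hm⟩ := neg_exists
  obtain ⟨y, hy, hym⟩ := d.exists_th_eq ha haw m
  set f := d.g * y with hf
  have hfJ : f ∈ Subgroup.normalizer (d.J : Set G) := Subgroup.mul_mem _ (d.M₀_le d.g_mem) hy.1
  have hfx : f * (d.z * d.w) * f⁻¹ = (d.z * d.w)⁻¹ := by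
    rw [show f * (d.z * d.w) * f⁻¹ = d.g * (y * (d.z * d.w) * y⁻¹) * d.g⁻¹ by rw [hf]; group,
      conj_eq_of_commute (d.mem_Cx.1 hy.2), ← conj_mul, d.g_z_w.1, d.g_z_w.2, mul_inv_rev]
    exact d.J_comm _ (d.J.inv_mem d.z_mem_J) _ (d.J.inv_mem d.w_mem_J)
  have hfκ : ∀ v, f * d.κ₃ v * f⁻¹ = (d.κ₃ v)⁻¹ := fun v => by
    rw [show f * d.κ₃ v * f⁻¹ = d.g * (y * d.κ₃ v * y⁻¹) * d.g⁻¹ by rw [hf]; group, d.th_spec hy, hym,
      d.g_κ₃, ← d.κ₃_neg]
    exact congrArg d.κ₃ (hm v)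
  have hinv : ∀ j ∈ d.J, f * j * f⁻¹ = j⁻¹ := by
    intro j hj
    obtain ⟨p, hp, v, rfl⟩ := d.exists_split hj
    obtain ⟨i, rfl⟩ := Subgroup.mem_zpowers_iff.1 hp
    rw [← conj_mul, ← conj_zpow, hfx, hfκ, inv_zpow, mul_inv_rev]
    exact d.J_comm _ (d.J.inv_mem (d.J.zpow_mem d.xz_mem_J i)) _ (d.J.inv_mem (d.κ₃_mem_J v))
  have hsq : f * f ∈ d.J := d.mem_J_of_commute_J fun j hj => by
    refine commute_of_conj_eq ?_
    rw [show f * f * j * (f * f)⁻¹ = f * (f * j * f⁻¹) * f⁻¹ by group, hinv j hj, hinv _ (d.J.inv_mem hj),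
      inv_inv]
  have ho : ∀ j ∈ d.J, f ^ 3 * j * (f ^ 3)⁻¹ = j⁻¹ := by
    intro j hj
    rw [show f ^ 3 * j * (f ^ 3)⁻¹ = f * ((f * f) * j * (f * f)⁻¹) * f⁻¹ by
      rw [pow_succ', pow_two]; group, conj_eq_of_commute (d.J_comm _ hsq j hj), hinv j hj]
  exact ⟨f ^ 3, Subgroup.pow_mem _ hfJ 3,
    by rw [← pow_add, show 3 + 3 = 2 * 3 from rfl, pow_mul, pow_two, d.J_exp _ hsq],
    ho _ d.xz_mem_J, ho⟩

theorem exists_inverter_sec {a : G} (ha : a ∈ d.Wx) (haw : (d.th a).w = true) :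
    ∃ σ : Mon →* G, ∀ m, σ m ∈ d.Wx ∧ d.th (σ m) = m := by
  obtain ⟨o, hoN, ho2, hox, ho⟩ := d.exists_inverter ha haw
  have hex : ∀ m, ∃ y ∈ d.Wx, y * o = o * y ∧ d.th y = m := by
    intro m
    obtain ⟨y, hy, hym⟩ := d.exists_th_eq ha haw m
    set j := y * o * y⁻¹ * o⁻¹ with hj
    have hjJ : j ∈ d.J := d.mem_J_of_commute_J fun u hu => by
      refine commute_of_conj_eq ?_
      have h1 : o⁻¹ * u * o = u⁻¹ := by
        have := ho u⁻¹ (d.J.inv_mem hu)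
        rw [inv_inv] at this
        calc o⁻¹ * u * o = o⁻¹ * (o * u⁻¹ * o⁻¹) * o := by rw [this]
          _ = _ := by group
      have h2 : y⁻¹ * u⁻¹ * y ∈ d.J := (Subgroup.mem_normalizer_iff''.1 hy.1 _).1 (d.J.inv_mem hu)
      calc j * u * j⁻¹ = y * (o * (y⁻¹ * (o⁻¹ * u * o) * y) * o⁻¹) * y⁻¹ := by rw [hj]; group
        _ = u := by rw [h1, ho _ h2]; group
    refine ⟨j * y, d.Wx.mul_mem (d.J_le_Wx hjJ) hy, commute_of_conj_eq ?_, ?_⟩
    · have hjo : j * o * j⁻¹ = j * j * o := by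
        have h := ho j hjJ
        calc j * o * j⁻¹ = j * (o * j⁻¹ * o⁻¹) * o := by group
          _ = _ := by rw [← conj_inv, h, inv_inv]
      calc j * y * o * (j * y)⁻¹ = j * (y * o * y⁻¹ * o⁻¹) * j⁻¹ * (j * o * j⁻¹) := by group
        _ = j * j * j * o := by rw [← hj, hjo]; group
        _ = o := by rw [← inv_eq_sq (d.J_exp j hjJ), inv_mul_cancel, one_mul]
    · rw [d.th_mul (d.J_le_Wx hjJ) hy, d.th_J hjJ, one_mul, hym]
  choose σ hσ hσo hσth using hex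
  have huniq : ∀ y ∈ d.Wx, y * o = o * y → σ (d.th y) = y := by
    intro y hy hyo
    set m := d.th y
    have hu : (σ m)⁻¹ * y ∈ d.J := d.mem_J_of_th (d.Wx.mul_mem (d.Wx.inv_mem (hσ m)) hy) (by
      rw [d.th_mul (d.Wx.inv_mem (hσ m)) hy, d.th_inv (hσ m), hσth m, inv_mul_cancel])
    refine inv_mul_eq_one.1 (d.eq_one_of_sq hu (mul_eq_one_iff_eq_inv.2 ?_))
    rw [← ho _ hu]
    exact (conj_eq_of_commute ((show Commute o (σ m) from (hσo m).symm).inv_right.mul_right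
      (show Commute o y from hyo.symm)).eq).symm
  refine ⟨MonoidHom.mk' σ fun m n => ?_, fun m => ⟨hσ m, hσth m⟩⟩
  have h := huniq (σ m * σ n) (d.Wx.mul_mem (hσ m) (hσ n))
    ((show Commute (σ m) o from hσo m).mul_left (show Commute (σ n) o from hσo n)).eq
  rwa [d.th_mul (hσ m) (hσ n), hσth m, hσth n] at h

/-- The case where the whole octahedral group occurs. -/
theorem zw_of_odd {a : G} (ha : a ∈ d.Wx) (haw : (d.th a).w = true) : d.ZW := by
  obtain ⟨σ, hσ⟩ := d.exists_inverter_sec ha haw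
  let lift : Q → d.Cx := fun q => ⟨d.κ₃ q.left.toAdd * σ q.right,
    d.Cx.mul_mem (d.Wx_le (d.J_le_Wx (d.κ₃_mem_J _))) (d.Wx_le (hσ _).1)⟩
  let π : Q →* d.Cx ⧸ d.Kx := (QuotientGroup.mk' d.Kx).comp (MonoidHom.mk' lift (by
    intro p q
    refine Subtype.ext ?_
    show d.κ₃ (p * q).left.toAdd * σ (p * q).right =
      d.κ₃ p.left.toAdd * σ p.right * (d.κ₃ q.left.toAdd * σ q.right)
    rw [SemidirectProduct.mul_left, SemidirectProduct.mul_right, toAdd_mul, d.κ₃_add, map_mul,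
      show (ThreeCubedSymFour.actHom p.right q.left).toAdd = actV p.right q.left.toAdd from rfl]
    have := d.th_spec (hσ p.right).1 q.left.toAdd
    rw [(hσ p.right).2] at this
    rw [← this]
    group))
  have hπ : ∀ q, π q = QuotientGroup.mk' d.Kx (lift q) := fun _ => rfl
  have hrange : ∀ y : d.Cx, (y : G) ∈ d.Wx → ∃ q, π q = QuotientGroup.mk' d.Kx y ∧ q.right = d.th y := by
    intro y hy
    obtain ⟨hs, hsth⟩ := hσ (d.th y)
    obtain ⟨p, hp, v, hv⟩ := d.exists_split (d.mem_J_of_th (d.Wx.mul_mem hy (d.Wx.inv_mem hs)) (by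
      rw [d.th_mul hy (d.Wx.inv_mem hs), d.th_inv hs, hsth, mul_inv_cancel]))
    refine ⟨⟨Multiplicative.ofAdd v, d.th y⟩, ?_, rfl⟩
    rw [hπ]
    refine (QuotientGroup.mk'_eq_mk' d.Kx).2 ⟨⟨p, d.Wx_le (d.Kx_le_Wx hp)⟩, d.mem_Kx.2 hp, Subtype.ext ?_⟩
    show d.κ₃ v * σ (d.th y) * p = y
    obtain ⟨i, rfl⟩ := Subgroup.mem_zpowers_iff.1 hp
    rw [((show Commute _ _ from d.mem_Cx.1 (d.Cx.mul_mem (d.Wx_le (d.J_le_Wx (d.κ₃_mem_J v)))
      (d.Wx_le hs))).zpow_right i).eq, ← mul_assoc, ← hv, inv_mul_cancel_right]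
  have hvec : ∀ q : Q, q.right = 1 → ((lift q : d.Cx) : G) = d.κ₃ q.left.toAdd := fun q hq => by
    show d.κ₃ q.left.toAdd * σ q.right = _
    rw [hq, map_one, mul_one]
  have hne : ∀ q : Q, q.right = 1 → q ≠ 1 → q.left.toAdd ≠ 0 := fun q hq h1 h0 =>
    h1 (SemidirectProduct.ext h0 hq)
  have hfuse : ∀ {p q : Q}, p.right = 1 → p ≠ 1 → q.right = 1 → ∀ g : d.Cx,
      π q = QuotientGroup.mk' d.Kx g * π p * (QuotientGroup.mk' d.Kx g)⁻¹ →
      QuotientGroup.mk' d.Kx g ∈ π.range := by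
    intro p q hp hp1 hq g h
    obtain ⟨r, hr, -⟩ := hrange g (by
      rw [hπ, hπ, ← map_inv, ← map_mul, ← map_mul] at h
      obtain ⟨k, hk, hke⟩ := (QuotientGroup.mk'_eq_mk' d.Kx).1 h
      refine d.mem_Wx_of_fused g.2 (hne p hp hp1) ?_
      have h2 : (g : G) * d.κ₃ p.left.toAdd * (g : G)⁻¹ = d.κ₃ q.left.toAdd * k := by
        rw [← hvec p hp, ← hvec q hq]
        exact (congrArg Subtype.val hke).symm
      rw [h2]
      exact d.J.mul_mem (d.κ₃_mem_J _) ((Subgroup.zpowers_le.2 d.xz_mem_J) (d.mem_Kx.1 hk)))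
    exact ⟨r, hr⟩
  have hinj : Function.Injective π := by
    refine (injective_iff_map_eq_one _).2 fun q h => ?_
    have hK : d.κ₃ q.left.toAdd * σ q.right ∈ Subgroup.zpowers (d.z * d.w) :=
      d.mem_Kx.1 ((QuotientGroup.eq_one_iff (lift q)).1 h)
    have hth := d.th_J ((Subgroup.zpowers_le.2 d.xz_mem_J) hK)
    rw [d.th_mul (d.J_le_Wx (d.κ₃_mem_J _)) (hσ _).1, d.th_J (d.κ₃_mem_J _), one_mul, (hσ _).2] at hth
    rw [hth, map_one, mul_one] at hK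
    refine SemidirectProduct.ext (show q.left.toAdd = 0 from ?_) hth
    by_contra hv
    exact d.κ₃_notMem hv hK
  have Emb : ThreeCubedSymFour.Embedded π := by
    refine ⟨hinj, fun p hp hp1 c hc => ?_, fun {p q} hp hp1 hq {c} h => ?_⟩
    · obtain ⟨g, rfl⟩ := QuotientGroup.mk'_surjective d.Kx c
      exact hfuse hp hp1 hp g (eq_mul_inv_of_mul_eq (Subgroup.mem_centralizer_singleton_iff.1 hc).symm)
    · obtain ⟨g, rfl⟩ := QuotientGroup.mk'_surjective d.Kx c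
      exact hfuse hp hp1 hq g h
  classical
  haveI := Fintype.ofFinite (d.Cx ⧸ d.Kx)
  obtain ⟨N, hN, hNmem⟩ := Emb.exists_normal
  refine d.zw_of_normal (N.comap (QuotientGroup.mk' d.Kx)) fun y hy => ?_
  obtain ⟨q, hq, hqr⟩ := hrange y hy
  rw [Subgroup.mem_comap, ← hq, hNmem q, ThreeCubedSymFour.mem_smallSub, hqr]

end Pair

end Cfsg.Agent.McLThree
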