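/-
The centralizer of `zw` normalizes `J`.
-/
import Cfsg.Agent.Lib.McLThree.Weak.SymCase
import Cfsg.Agent.Lib.McLThree.Weak.AltCase

set_option autoImplicit false
set_option linter.style.longLine false

namespace Cfsg.Agent.McLThree

namespace Pair

variable {G : Type*} [Group G] [Finite G] (d : Pair G)

/-- The hypothesis `ZW` holds. -/
theorem zw_of_data : d.ZW := by
  by_cases h : ∃ a ∈ d.Wx, (d.th a).w = true
  · obtain ⟨a, ha, haw⟩ := h
    exact d.zw_of_odd ha haw
  · exact d.zw_of_even fun y hy => by
      by_contra hne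
      exact h ⟨y, hy, by simpa using hne⟩

end Pair

end Cfsg.Agent.McLThree
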